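import Cfsg.Agent.TensorOrthSlice.Three
import Cfsg.Agent.TensorOrth.EndGame
import Cfsg.Agent.TensorOrth.Transport
import Cfsg.Agent.TensorOrth.Structure
import Cfsg.Agent.TensorOrth.Proper

/-!
# Orthogonal tensor stabilisers with an odd-dimensional factor
-/

set_option autoImplicit false
set_option linter.unusedSectionVars false

namespace CfsgLib.TensorSlice

open Matrix Module CfsgLib.Spinor CfsgLib.OrthMax CfsgLib.TensorOrth Cfsg.Geo
open CfsgLib.TensorMax (Idx ten)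
open scoped Kronecker

variable {F : Type*} [Field F] [Fintype F]

/-- The factor of a symmetric form. -/
theorem fac_of_symmetric {n : ℕ} (h2 : (2 : F) ≠ 0) {f : (Fin n → F) → (Fin n → F) → F} (hf : IsSymmetricForm f)
    {k : F} (hk : k ≠ 0) : Fac (bilinOf hf.bilinear k) 1 where
  nondeg := by
    refine ⟨fun x hx => by_contra fun h0 => ?_, fun y hy => by_contra fun h0 => ?_⟩
    · obtain ⟨-, z, hz⟩ := hf.nondegenerate x h0
      exact hz ((mul_eq_zero.1 (by simpa using hx z)).resolve_left hk)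
    · obtain ⟨⟨z, hz⟩, -⟩ := hf.nondegenerate y h0
      exact hz ((mul_eq_zero.1 (by simpa using hy z)).resolve_left hk)
  symm x y := by rw [bilinOf_apply, bilinOf_apply, hf.symm x y, one_mul]
  kind := Or.inl ⟨rfl, h2⟩

theorem two_ne_of_odd (hodd : Odd (Fintype.card F)) : (2 : F) ≠ 0 := fun h => by
  have hc : ringChar F = 2 := (Nat.prime_dvd_prime_iff_eq (CharP.char_is_prime F _) Nat.prime_two).mp
    ((ringChar.spec F 2).mp h)
  exact Nat.not_even_iff_odd.mpr hodd (Nat.even_iff.mpr (FiniteField.even_card_iff_char_two.mp hc))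

/-- The setting in tensor coordinates. -/
theorem aset_of_structure {ι : Type} [Fintype ι] [DecidableEq ι] {a b : ℕ} (h2 : (2 : F) ≠ 0) (ha : 0 < a)
    (hb : 0 < b) {Q : QuadraticForm F (ι → F)} (hQ : (QuadraticMap.polarBilin Q).Nondegenerate)
    (e : ι ≃ Fin a × Fin b) (P : GL ι F) {f₁ : (Fin a → F) → (Fin a → F) → F} {f₂ : (Fin b → F) → (Fin b → F) → F}
    (hf₁ : IsSymmetricForm f₁) (hf₂ : IsSymmetricForm f₂)
    (hT : IsTensorFormStructure id (QuadraticMap.polar ⇑Q) f₁ f₂ e P) :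
    ∃ c : F, c ≠ 0 ∧ ASet (coordQuad Q e P) (bilinOf hf₁.bilinear c) (bilinOf hf₂.bilinear 1) := by
  obtain ⟨c, hc, hT⟩ := hT
  have hpolar : ∀ x x' y y', QuadraticMap.polar (⇑(coordQuad Q e P)) (ten x y) (ten x' y')
      = bilinOf hf₁.bilinear c x x' * bilinOf hf₂.bilinear 1 y y' := fun x x' y y' => by
    rw [polar_coordQuad, bilinOf_apply, bilinOf_apply, one_mul, mul_assoc,
      ← formOfGram_kron_ten hf₁.bilinear hf₂.bilinear]
    exact hT _ _
  refine ⟨c, hc, ⟨coordQuad_nondeg hQ e P, fac_of_symmetric h2 hf₁ hc, fac_of_symmetric h2 hf₂ one_ne_zero,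
    hpolar, fun x y hxy => ?_⟩, h2, ha, hb⟩
  have h := hpolar x x y y
  rw [polar_self'] at h
  rcases hxy with hx | hy
  · rw [hx, zero_mul, mul_eq_zero] at h; exact h.resolve_left h2
  · rw [hy, mul_zero, mul_eq_zero] at h; exact h.resolve_left h2

variable {a b : ℕ} {Q : QuadraticForm F (Idx a b → F)} {B₁ : LinearMap.BilinForm F (Fin a → F)}
  {B₂ : LinearMap.BilinForm F (Fin b → F)}

namespace ASet

variable (hs : ASet Q B₁ B₂)
include hs

theorem ctx_of_wide (ha : 3 ≤ a) (hb : 5 ≤ b) (h3 : Fintype.card F = 3 → 5 ≤ a ∨ (a = 4 ∧ NoPlane B₁))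
    {M : Subgroup (Isom Q)} (hΩ : ∀ g ∈ Cfsg.Omega F ⇑Q, g ∈ Kr Q → g ∈ M) : Ctx Q B₁ B₂ 1 M := by
  refine ⟨hs.tset, by omega, by omega, Or.inr ⟨ha, ?_, hs.two⟩, Or.inr ?_, hΩ⟩
  · rw [Nat.card_eq_fintype_card]
    by_cases h : Fintype.card F = 3
    · rcases h3 h with h' | ⟨h', -⟩ <;> right <;> omega
    · exact Or.inl h
  · rw [Nat.card_eq_fintype_card]
    by_cases h : Fintype.card F = 3
    · rcases h3 h with h' | ⟨h', hN⟩
      · exact Or.inr (Or.inl h')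
      · exact Or.inr (Or.inr ⟨h'.ge, hN⟩)
    · exact Or.inl h

/-- An odd second factor of dimension at least five. -/
theorem omega_le_of_odd (ha : 3 ≤ a) (hb : 5 ≤ b) (hbo : Odd b) (hab : a ≠ b)
    (h3 : Fintype.card F = 3 → 5 ≤ a ∨ (a = 4 ∧ NoPlane B₁)) (hW : Wide B₁)
    (h6 : Odd a → Fintype.card F = 3 → 6 ≤ b) {M : Subgroup (Isom Q)}
    (hΩ : ∀ g ∈ Cfsg.Omega F ⇑Q, g ∈ Kr Q → g ∈ M) {g : Isom Q} (hg : g ∈ M) (hgK : g ∉ Kr Q) :
    Cfsg.Omega F ⇑Q ≤ M := by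
  obtain ⟨m, hm, hmK, c, c', hc0, hc, hc'0, hc', hmap⟩ := hs.slice_of_overgroup hΩ hbo hb hab h6 hg hgK
  exact (hs.ctx_of_wide ha hb h3 hΩ).omega_le_of_slice hb hW hm hmK hc0 hc hc'0 hc' hmap

/-- Hypotheses and conclusions move along the exchange of the factors. -/
theorem of_swap (key : ∀ M' : Subgroup (Isom (swQ Q)), (∀ g ∈ Cfsg.Omega F ⇑(swQ Q), g ∈ Kr (swQ Q) → g ∈ M') →
      ∀ g ∈ M', g ∉ Kr (swQ Q) → Cfsg.Omega F ⇑(swQ Q) ≤ M')
    {M : Subgroup (Isom Q)} (hΩ : ∀ g ∈ Cfsg.Omega F ⇑Q, g ∈ Kr Q → g ∈ M) {g : Isom Q} (hg : g ∈ M)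
    (hgK : g ∉ Kr Q) : Cfsg.Omega F ⇑Q ≤ M := by
  have h := key (M.map (swIso Q).toMonoidHom) (fun x hx hxK => by
    rw [← swIso_omega] at hx
    obtain ⟨y, hy, rfl⟩ := hx
    exact Subgroup.mem_map_of_mem _ (hΩ y hy ((swIso_mem_Kr hs.apos hs.bpos hs.tset y).1 hxK)))
    (swIso Q g) (Subgroup.mem_map_of_mem _ hg) fun h => hgK ((swIso_mem_Kr hs.apos hs.bpos hs.tset g).1 h)
  rw [← swIso_omega] at h
  exact (Subgroup.map_le_map_iff_of_injective (f := (swIso Q).toMonoidHom) (swIso Q).injective).1 h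

/-- A three-dimensional first factor and an even second factor. -/
theorem omega_le_of_three (ha : a = 3) (hb : 6 ≤ b) (hbe : Even b) (hq : Fintype.card F ≠ 3)
    {M : Subgroup (Isom Q)} (hΩ : ∀ g ∈ Cfsg.Omega F ⇑Q, g ∈ Kr Q → g ∈ M) {g : Isom Q} (hg : g ∈ M)
    (hgK : g ∉ Kr Q) : Cfsg.Omega F ⇑Q ≤ M := by
  have hK := swIso_mem_Kr hs.apos hs.bpos hs.tset
  obtain ⟨m, hm, hmK, γ, hγ0, hγ, hmap⟩ := hs.swap.exists_left_slice ha hbe (by omega)
    (M := M.map (swIso Q).toMonoidHom) (fun x hx hxK => by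
      rw [← swIso_omega] at hx
      obtain ⟨y, hy, rfl⟩ := hx
      exact Subgroup.mem_map_of_mem _ (hΩ y hy ((hK y).1 hxK)))
    (g := swIso Q g) (Subgroup.mem_map_of_mem _ hg) fun h => hgK ((hK g).1 h)
  obtain ⟨n, hn, rfl⟩ := hm
  refine (hs.ctx_of_wide ha.ge (by omega) (fun h => absurd h hq) hΩ).omega_le_of_slice (by omega)
    (hs.tset.f₁.noPlane_wide ha.le) hn (fun h => hmK ((hK n).2 h)) hγ0 hγ hγ0 hγ fun x => ?_
  obtain ⟨w', hw'⟩ := hmap x
  refine ⟨w', ?_⟩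
  have h1 := congrArg swL hw'
  rw [show mat (swQ Q) ((swIso Q).toMonoidHom n) *ᵥ ten γ x = swL.symm (mat Q n *ᵥ swL (ten γ x)) from
    swIso_mulVec n _, LinearEquiv.apply_symm_apply, swL_ten, swL_ten] at h1
  exact h1

/-- An element of `Ω` outside the stabiliser. -/
theorem exists_omega_out (ha : 3 ≤ a) (hb : 3 ≤ b) : ∃ g ∈ Cfsg.Omega F ⇑Q, g ∉ Kr Q := by
  obtain ⟨γ, -, hγ0, hγ⟩ := hs.tset.f₁.exists_iso ⊤ (by rw [finrank_top, Module.finrank_fin_fun]; omega)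
  obtain ⟨c, -, hc0, hc⟩ := hs.tset.f₂.exists_iso ⊤ (by rw [finrank_top, Module.finrank_fin_fun]; omega)
  exact hs.tset.exists_omega_notMem (le_trans (by omega : 5 ≤ 3 * 3) (Nat.mul_le_mul ha hb)) hb hγ0 hγ hc0 hc

end ASet

end CfsgLib.TensorSlice
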