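import Cfsg.Agent.TensorOrth.CentralTools
import Cfsg.Agent.MaxSub.QuadraticBasic

/-!
# Reflections of the second factor and slices, orthogonal tensor products
-/

set_option autoImplicit false
set_option linter.unusedSectionVars false

namespace CfsgLib.TensorSlice

open Matrix Module CfsgLib.Spinor CfsgLib.OrthMax CfsgLib.TensorOrth
open CfsgLib.TensorMax (Idx ten krG ten_add_left ten_add_right ten_smul_left
  ten_smul_right kron_mulVec_ten krG_val ten_eq_zero ten_inj_left ten_inj_right)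
open CfsgLib.TensorUnitary (ten_induction mat_ext_ten)
open scoped Kronecker

variable {F : Type*} [Field F] {a b : ℕ}

theorem ten_zero_right (x : Fin a → F) : ten x (0 : Fin b → F) = (0 : Idx a b → F) :=
  ten_eq_zero.2 (Or.inr rfl)

theorem ten_neg_left (x : Fin a → F) (y : Fin b → F) : ten (-x) y = - ten x y := by
  rw [← neg_one_smul F x, ten_smul_left, neg_one_smul]

theorem ten_neg_right (x : Fin a → F) (y : Fin b → F) : ten x (-y) = - ten x y := by
  rw [← neg_one_smul F y, ten_smul_right, neg_one_smul]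

theorem ten_sub_right (x : Fin a → F) (y y' : Fin b → F) : ten x (y - y') = ten x y - ten x y' := by
  rw [sub_eq_add_neg, ten_add_right, ten_neg_right, sub_eq_add_neg]

theorem ten_sub_left (x x' : Fin a → F) (y : Fin b → F) : ten (x - x') y = ten x y - ten x' y := by
  rw [sub_eq_add_neg, ten_add_left, ten_neg_left, sub_eq_add_neg]

theorem ten_sum_right {ι : Type*} (s : Finset ι) (x : Fin a → F) (f : ι → Fin b → F) :
    ten x (∑ i ∈ s, f i) = ∑ i ∈ s, ten x (f i) := by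
  classical
  induction s using Finset.induction with
  | empty => simp [ten_zero_right]
  | insert i s hi ih => rw [Finset.sum_insert hi, Finset.sum_insert hi, ten_add_right, ih]

/-- Scalar multiples as invertible matrices. -/
noncomputable def scGL (n : ℕ) (r : F) (hr : r ≠ 0) : GL (Fin n) F :=
  Units.map (Matrix.scalar (Fin n) : F →+* Matrix (Fin n) (Fin n) F).toMonoidHom (Units.mk0 r hr)

theorem scGL_mul_mulVec {n : ℕ} (r : F) (hr : r ≠ 0) (T : GL (Fin n) F) (x : Fin n → F) :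
    ((scGL n r hr * T : GL (Fin n) F) : Matrix (Fin n) (Fin n) F) *ᵥ x
      = r • ((T : Matrix (Fin n) (Fin n) F) *ᵥ x) := by
  simp [scGL, Matrix.smul_eq_diagonal_mul, ← smul_mulVec]

/-- An orthogonal family of anisotropic vectors. -/
def IsOrth (B : LinearMap.BilinForm F (Fin b → F)) {n : ℕ} (p : Fin n → Fin b → F) : Prop :=
  (∀ i, B (p i) (p i) ≠ 0) ∧ ∀ i j, i ≠ j → B (p i) (p j) = 0

/-- The common orthogonal of a family. -/
def perp (B : LinearMap.BilinForm F (Fin b → F)) {n : ℕ} (p : Fin n → Fin b → F) :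
    Submodule F (Fin b → F) :=
  LinearMap.ker (LinearMap.pi fun i => B.flip (p i))

theorem mem_perp {B : LinearMap.BilinForm F (Fin b → F)} {n : ℕ} {p : Fin n → Fin b → F} {x : Fin b → F} :
    x ∈ perp B p ↔ ∀ i, B x (p i) = 0 := by
  simp [perp, funext_iff]

theorem finrank_perp (B : LinearMap.BilinForm F (Fin b → F)) {n : ℕ} (p : Fin n → Fin b → F) :
    b ≤ finrank F (perp B p) + n := by
  have h := LinearMap.finrank_range_add_finrank_ker (LinearMap.pi fun i => B.flip (p i))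
  have h1 := Submodule.finrank_le (LinearMap.range (LinearMap.pi fun i => B.flip (p i)))
  rw [Module.finrank_fin_fun] at h h1
  rw [perp]
  omega

/-- The setting: a tensor product of two symmetric forms in odd characteristic. -/
structure ASet (Q : QuadraticForm F (Idx a b → F)) (B₁ : LinearMap.BilinForm F (Fin a → F))
    (B₂ : LinearMap.BilinForm F (Fin b → F)) : Prop where
  tset : TSet Q B₁ B₂ 1
  two : (2 : F) ≠ 0
  apos : 0 < a
  bpos : 0 < b

variable {Q : QuadraticForm F (Idx a b → F)} {B₁ : LinearMap.BilinForm F (Fin a → F)}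
  {B₂ : LinearMap.BilinForm F (Fin b → F)}

/-- Elements fixing the slices of a family pointwise. -/
def fixP (Q : QuadraticForm F (Idx a b → F)) {n : ℕ} (p : Fin n → Fin b → F) : Subgroup (Isom Q) where
  carrier := {g | ∀ i x, mat Q g *ᵥ ten x (p i) = ten x (p i)}
  one_mem' i x := by simp [mat_one]
  mul_mem' {g h} hg hh i x := by rw [mat_mul, ← mulVec_mulVec, hh, hg]
  inv_mem' {g} hg i x := by conv_lhs => rw [← hg i x, mulVec_cancel]

/-- `y` maps the slice at `k` to a slice. -/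
def Pure (y : Isom Q) (k : Fin b → F) : Prop :=
  ∃ φ, ∀ x, ∃ x', mat Q y *ᵥ ten x k = ten x' φ

/-- An element of `M` outside `Kr` maps a singular slice to a singular slice. -/
def SliceMap (B₂ : LinearMap.BilinForm F (Fin b → F)) (M : Subgroup (Isom Q)) : Prop :=
  ∃ g ∈ M, g ∉ Kr Q ∧ ∃ c c', c ≠ 0 ∧ B₂ c c = 0 ∧ c' ≠ 0 ∧ B₂ c' c' = 0 ∧
    ∀ x, ∃ x', mat Q g *ᵥ ten x c = ten x' c'

/-- One more fixed anisotropic slice, or a slice map in dimension at least four. -/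
def Grow (B₂ : LinearMap.BilinForm F (Fin b → F)) (M : Subgroup (Isom Q)) {n : ℕ}
    (p : Fin n → Fin b → F) : Prop :=
  (∃ h, B₂ h h ≠ 0 ∧ (∀ i, B₂ h (p i) = 0) ∧
    ∃ y ∈ M, y ∉ Kr Q ∧ y ∈ fixP Q (Fin.snoc p h : Fin (n + 1) → Fin b → F)) ∨ (4 ≤ b ∧ SliceMap B₂ M)

namespace ASet

variable (hs : ASet Q B₁ B₂)
include hs

theorem symm₁ (x y : Fin a → F) : B₁ x y = B₁ y x := by rw [hs.tset.f₁.symm, one_mul]

theorem symm₂ (x y : Fin b → F) : B₂ x y = B₂ y x := by rw [hs.tset.f₂.symm, one_mul]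

theorem ext_ten {g h : Isom Q} (e : ∀ x y, mat Q g *ᵥ ten x y = mat Q h *ᵥ ten x y) : g = h :=
  mat_ext Q (mat_ext_ten e)

/-- A non-zero vector of the first factor with a partner. -/
theorem exists_pair₁ : ∃ x z, B₁ x z = 1 := by
  have he : (Pi.single (⟨0, hs.apos⟩ : Fin a) (1 : F) : Fin a → F) ≠ 0 := by simp
  obtain ⟨z, hz⟩ := hs.tset.f₁.exists_one he
  exact ⟨z, _, hz⟩

theorem exists_ne₁ : ∃ x : Fin a → F, x ≠ 0 := ⟨Pi.single ⟨0, hs.apos⟩ 1, by simp⟩

/-- The action of a second-factor isometry. -/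
noncomputable def kR : ↥(isoG B₂) →* Isom Q where
  toFun T := hs.tset.krIso 1 T.1 (hs.tset.right_ok T.2)
  map_one' := Subtype.ext (by
    show krG ((1 : GL (Fin a) F), (1 : GL (Fin b) F)) = 1
    rw [Prod.mk_one_one, map_one])
  map_mul' S T := Subtype.ext (by
    show krG ((1 : GL (Fin a) F), (S.1 * T.1)) = krG (1, S.1) * krG (1, T.1)
    rw [← map_mul, Prod.mk_mul_mk, one_mul])

theorem kR_ten (T : isoG B₂) (x : Fin a → F) (y : Fin b → F) :
    mat Q (hs.kR T) *ᵥ ten x y = ten x ((T.1 : Matrix (Fin b) (Fin b) F) *ᵥ y) := by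
  show (krG ((1 : GL (Fin a) F), T.1) : Matrix (Idx a b) (Idx a b) F) *ᵥ ten x y = _
  rw [krG_val, kron_mulVec_ten, Units.val_one, one_mulVec]

theorem kR_mem (T : isoG B₂) : hs.kR T ∈ Kr Q := ⟨1, T.1, rfl⟩

theorem isoG_ext {S T : isoG B₂}
    (e : ∀ y, (S.1 : Matrix (Fin b) (Fin b) F) *ᵥ y = (T.1 : Matrix (Fin b) (Fin b) F) *ᵥ y) : S = T :=
  Subtype.ext (Units.ext (Matrix.ext_iff_mulVec.2 e))

theorem kR_inj : Function.Injective hs.kR := fun S T h => hs.isoG_ext fun y => by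
  obtain ⟨x, hx⟩ := hs.exists_ne₁
  refine ten_inj_right hx ?_
  rw [← hs.kR_ten, h, hs.kR_ten]

theorem row_kR (T : isoG B₂) (v : Idx a b → F) (i : Fin a) :
    TensorUnitary.row (mat Q (hs.kR T) *ᵥ v) i
      = (T.1 : Matrix (Fin b) (Fin b) F) *ᵥ TensorUnitary.row v i := by
  show TensorUnitary.row ((krG ((1 : GL (Fin a) F), T.1) : Matrix (Idx a b) (Idx a b) F) *ᵥ v) i = _
  rw [krG_val, TensorUnitary.row_kron_mulVec, Finset.sum_eq_single i]
  · simp
  · intro j _ hj; simp [Matrix.one_apply_ne (Ne.symm hj)]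
  · simp

open Classical in
/-- The reflection in a vector of the second factor. -/
noncomputable def rR (e : Fin b → F) : isoG B₂ :=
  if h : B₂ e e ≠ 0 then ⟨(hs.tset.f₂.exists_refl rfl h).choose, (hs.tset.f₂.exists_refl rfl h).choose_spec.1⟩
  else 1

theorem rR_apply {e : Fin b → F} (he : B₂ e e ≠ 0) (x : Fin b → F) :
    ((hs.rR e).1 : Matrix (Fin b) (Fin b) F) *ᵥ x = x - (2 * B₂ x e / B₂ e e) • e := by
  classical
  rw [rR, dif_pos he]
  exact (hs.tset.f₂.exists_refl rfl he).choose_spec.2 x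

theorem rR_fix {e : Fin b → F} (he : B₂ e e ≠ 0) {x : Fin b → F} (hx : B₂ x e = 0) :
    ((hs.rR e).1 : Matrix (Fin b) (Fin b) F) *ᵥ x = x := by
  rw [hs.rR_apply he, hx, mul_zero, zero_div, zero_smul, sub_zero]

theorem rR_self {e : Fin b → F} (he : B₂ e e ≠ 0) :
    ((hs.rR e).1 : Matrix (Fin b) (Fin b) F) *ᵥ e = -e := by
  rw [hs.rR_apply he, mul_div_assoc, div_self he, mul_one, two_smul]; abel

theorem rR_sq (e : Fin b → F) : hs.rR e * hs.rR e = 1 := by
  by_cases he : B₂ e e ≠ 0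
  · refine hs.isoG_ext fun x => ?_
    show (((hs.rR e).1 * (hs.rR e).1 : GL (Fin b) F) : Matrix (Fin b) (Fin b) F) *ᵥ x
      = ((1 : GL (Fin b) F) : Matrix (Fin b) (Fin b) F) *ᵥ x
    rw [Units.val_mul, ← mulVec_mulVec, hs.rR_apply he x, mulVec_sub, mulVec_smul, hs.rR_self he,
      hs.rR_apply he x, Units.val_one, one_mulVec]
    module
  · classical
    rw [rR, dif_neg he, one_mul]

theorem rR_conj (T : isoG B₂) {e : Fin b → F} (he : B₂ e e ≠ 0) :
    T * hs.rR e * T⁻¹ = hs.rR ((T.1 : Matrix (Fin b) (Fin b) F) *ᵥ e) := by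
  rw [mul_inv_eq_iff_eq_mul]
  refine hs.isoG_ext fun x => ?_
  show ((T.1 * (hs.rR e).1 : GL (Fin b) F) : Matrix (Fin b) (Fin b) F) *ᵥ x
    = (((hs.rR _).1 * T.1 : GL (Fin b) F) : Matrix (Fin b) (Fin b) F) *ᵥ x
  have he' : B₂ ((T.1 : Matrix (Fin b) (Fin b) F) *ᵥ e) ((T.1 : Matrix (Fin b) (Fin b) F) *ᵥ e) ≠ 0 := by
    rwa [T.2]
  rw [Units.val_mul, Units.val_mul, ← mulVec_mulVec, ← mulVec_mulVec, hs.rR_apply he, hs.rR_apply he',
    mulVec_sub, mulVec_smul, T.2, T.2]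

/-- Equal reflections have proportional vectors. -/
theorem rR_eq {e e' : Fin b → F} (he : B₂ e e ≠ 0) (he' : B₂ e' e' ≠ 0) (h : hs.rR e = hs.rR e') :
    e = (B₂ e e' / B₂ e' e') • e' := by
  have h1 := hs.rR_self he
  rw [h, hs.rR_apply he'] at h1
  have h2 : (2 : F) • e = (2 : F) • ((B₂ e e' / B₂ e' e') • e') := by
    rw [smul_smul, ← mul_div_assoc]
    linear_combination (norm := module) h1
  exact smul_right_injective _ hs.two h2

/-- The reflection in a slice. -/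
noncomputable def R (e : Fin b → F) : Isom Q := hs.kR (hs.rR e)

theorem R_mem (e : Fin b → F) : hs.R e ∈ Kr Q := hs.kR_mem _

theorem R_sq (e : Fin b → F) : hs.R e * hs.R e = 1 := by rw [R, ← map_mul, hs.rR_sq, map_one]

theorem R_inv (e : Fin b → F) : (hs.R e)⁻¹ = hs.R e := inv_eq_of_mul_eq_one_right (hs.R_sq e)

theorem R_vec {e : Fin b → F} (he : B₂ e e ≠ 0) (v : Idx a b → F) :
    mat Q (hs.R e) *ᵥ v = v - (2 / B₂ e e) • ten (evB B₂ e v) e := by
  induction v using ten_induction with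
  | hadd v w hv hw => rw [mulVec_add, hv, hw, map_add, ten_add_left, smul_add]; abel
  | h0 => simp [ten_eq_zero.2 (Or.inl rfl)]
  | h x y =>
    rw [R, hs.kR_ten, hs.rR_apply he, ten_sub_right, ten_smul_right, evB_ten, ten_smul_left, smul_smul]
    congr 2
    ring

theorem R_fix {e : Fin b → F} (he : B₂ e e ≠ 0) {v : Idx a b → F} (hv : evB B₂ e v = 0) :
    mat Q (hs.R e) *ᵥ v = v := by
  rw [hs.R_vec he, hv, ten_eq_zero.2 (Or.inl rfl), smul_zero, sub_zero]

theorem R_fix_ten {e : Fin b → F} (he : B₂ e e ≠ 0) {w : Fin b → F} (hw : B₂ w e = 0) (x : Fin a → F) :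
    mat Q (hs.R e) *ᵥ ten x w = ten x w := hs.R_fix he (by rw [evB_ten, hw, zero_smul])

theorem R_self {e : Fin b → F} (he : B₂ e e ≠ 0) (x : Fin a → F) :
    mat Q (hs.R e) *ᵥ ten x e = - ten x e := by
  rw [R, hs.kR_ten, hs.rR_self he, ten_neg_right]

theorem R_smul {e : Fin b → F} (he : B₂ e e ≠ 0) {s : F} (hs0 : s ≠ 0) : hs.R (s • e) = hs.R e := by
  have he' : B₂ (s • e) (s • e) ≠ 0 := by simp [he, hs0]
  refine congrArg hs.kR (hs.isoG_ext fun x => ?_)
  rw [hs.rR_apply he', hs.rR_apply he, smul_smul]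
  simp only [map_smul, LinearMap.smul_apply, smul_eq_mul]
  congr 2
  field_simp

theorem R_fixP {n : ℕ} {p : Fin n → Fin b → F} {e : Fin b → F} (he : B₂ e e ≠ 0)
    (hp : ∀ i, B₂ e (p i) = 0) : hs.R e ∈ fixP Q p := fun i x =>
  hs.R_fix_ten he (by rw [hs.symm₂, hp]) x

/-- An element fixing a slice pointwise preserves the contraction with it. -/
theorem evB_of_fix {g : Isom Q} {k : Fin b → F} (h : ∀ x, mat Q g *ᵥ ten x k = ten x k) (v : Idx a b → F) :
    evB B₂ k (mat Q g *ᵥ v) = evB B₂ k v := by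
  refine sub_eq_zero.1 (hs.tset.f₁.sep fun x => ?_)
  rw [map_sub, LinearMap.sub_apply, ← hs.tset.polar_ten, ← hs.tset.polar_ten]
  conv_lhs => arg 1; rw [← h x, polar_mulVec]
  rw [sub_self]

theorem commute_R {g : Isom Q} {k : Fin b → F} (hk : B₂ k k ≠ 0)
    (h : ∀ x, mat Q g *ᵥ ten x k = ten x k) : g * hs.R k = hs.R k * g := by
  refine hs.ext_ten fun x y => ?_
  rw [mat_mul, mat_mul, ← mulVec_mulVec, ← mulVec_mulVec, hs.R_vec hk, hs.R_vec hk, hs.evB_of_fix h,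
    mulVec_sub, mulVec_smul, h]

/-- Elements of `Kr` are products of isometries of the factors. -/
theorem kr_cases (hbo : Odd b) {g : Isom Q} (hg : g ∈ Kr Q) :
    ∃ S ∈ isoG B₁, ∃ T : isoG B₂, ∀ x y, mat Q g *ᵥ ten x y
      = ten ((S : Matrix (Fin a) (Fin a) F) *ᵥ x) ((T.1 : Matrix (Fin b) (Fin b) F) *ᵥ y) := by
  obtain ⟨S, T, hST⟩ := hg
  have hgv : ∀ x y, mat Q g *ᵥ ten x y
      = ten ((S : Matrix (Fin a) (Fin a) F) *ᵥ x) ((T : Matrix (Fin b) (Fin b) F) *ᵥ y) := fun x y => by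
    rw [show mat Q g = (S : Matrix (Fin a) (Fin a) F) ⊗ₖ (T : Matrix (Fin b) (Fin b) F) from hST,
      kron_mulVec_ten]
  have hiso : ∀ x x' y y', B₁ ((S : Matrix (Fin a) (Fin a) F) *ᵥ x) ((S : Matrix (Fin a) (Fin a) F) *ᵥ x') *
      B₂ ((T : Matrix (Fin b) (Fin b) F) *ᵥ y) ((T : Matrix (Fin b) (Fin b) F) *ᵥ y') = B₁ x x' * B₂ y y' :=
    fun x x' y y' => by rw [← hs.tset.polar, ← hgv, ← hgv, polar_mulVec, hs.tset.polar]
  obtain ⟨x₀, z₀, hxz⟩ := hs.exists_pair₁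
  set α := B₁ ((S : Matrix (Fin a) (Fin a) F) *ᵥ x₀) ((S : Matrix (Fin a) (Fin a) F) *ᵥ z₀) with hα
  obtain ⟨y₀, hy₀⟩ := hs.tset.f₂.exists_one
    (show (Pi.single (⟨0, hs.bpos⟩ : Fin b) (1 : F) : Fin b → F) ≠ 0 by simp)
  have hαβ := hiso x₀ z₀ y₀ (Pi.single ⟨0, hs.bpos⟩ 1)
  rw [hxz, hy₀, mul_one, ← hα] at hαβ
  have hα0 : α ≠ 0 := left_ne_zero_of_mul_eq_one hαβ
  have hT : ∀ y y', B₂ ((T : Matrix (Fin b) (Fin b) F) *ᵥ y) ((T : Matrix (Fin b) (Fin b) F) *ᵥ y')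
      = α⁻¹ * B₂ y y' := fun y y' => by
    have h := hiso x₀ z₀ y y'
    rw [hxz, one_mul, ← hα] at h
    rw [← h, ← mul_assoc, inv_mul_cancel₀ hα0, one_mul]
  -- the multiplier is a square
  set G := LinearMap.BilinForm.toMatrix' B₂ with hG
  have hG0 : G.det ≠ 0 := by
    rw [← LinearMap.BilinForm.nondegenerate_toBilin'_iff_det_ne_zero, hG, Matrix.toBilin'_toMatrix']
    exact hs.tset.f₂.nondeg
  have hcomp : B₂.comp (Matrix.toLin' (T : Matrix (Fin b) (Fin b) F)) (Matrix.toLin' (T : Matrix (Fin b) (Fin b) F))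
      = α⁻¹ • B₂ := by
    refine LinearMap.ext₂ fun y y' => ?_
    simp [Matrix.toLin'_apply, hT]
  have hdet := congrArg (fun C => (LinearMap.BilinForm.toMatrix' C).det) hcomp
  simp only [LinearMap.BilinForm.toMatrix'_comp, LinearMap.toMatrix'_toLin', map_smul, ← hG, det_smul,
    det_mul, det_transpose, Fintype.card_fin] at hdet
  obtain ⟨k, hk⟩ := hbo
  set d := (T : Matrix (Fin b) (Fin b) F).det
  have hμ : d * d = α⁻¹ ^ b := mul_right_cancel₀ hG0 (by linear_combination hdet)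
  have hμ0 : α⁻¹ ≠ 0 := inv_ne_zero hα0
  have hd : d ≠ 0 := fun h => pow_ne_zero b hμ0 (by rw [← hμ, h, mul_zero])
  set r := d / α⁻¹ ^ k with hr
  have hr0 : r ≠ 0 := div_ne_zero hd (pow_ne_zero _ hμ0)
  have hr2 : r * r = α⁻¹ := by
    rw [hr, div_mul_div_comm, hμ, hk, div_eq_iff (mul_ne_zero (pow_ne_zero _ hμ0) (pow_ne_zero _ hμ0))]
    ring
  have hT' : ∀ y y', B₂ (r⁻¹ • ((T : Matrix (Fin b) (Fin b) F) *ᵥ y)) (r⁻¹ • ((T : Matrix (Fin b) (Fin b) F) *ᵥ y'))
      = B₂ y y' := fun y y' => by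
    simp only [map_smul, LinearMap.smul_apply, smul_eq_mul, hT, ← hr2]
    field_simp
  refine ⟨scGL a r hr0 * S, fun x x' => ?_,
    ⟨scGL b r⁻¹ (inv_ne_zero hr0) * T, fun y y' => by rw [scGL_mul_mulVec, scGL_mul_mulVec, hT']⟩, fun x y => ?_⟩
  · simp only [scGL_mul_mulVec, map_smul, LinearMap.smul_apply, smul_eq_mul]
    have h := hiso x x' y₀ (Pi.single ⟨0, hs.bpos⟩ 1)
    rw [hT, hy₀, ← hr2, mul_one, mul_one] at h
    linear_combination h
  · rw [hgv, scGL_mul_mulVec, scGL_mul_mulVec, ten_smul_left, ten_smul_right, smul_smul, mul_inv_cancel₀ hr0,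
      one_smul]

/-- An element of `Kr` fixing a slice pointwise is a second-factor isometry. -/
theorem kr_fix {g : Isom Q} (hg : g ∈ Kr Q) {h : Fin b → F} (hh : h ≠ 0)
    (hfix : ∀ x, mat Q g *ᵥ ten x h = ten x h) :
    ∃ T : isoG B₂, g = hs.kR T ∧ (T.1 : Matrix (Fin b) (Fin b) F) *ᵥ h = h := by
  obtain ⟨S, T₀, hST⟩ := hg
  have hST' : mat Q g = (S : Matrix (Fin a) (Fin a) F) ⊗ₖ (T₀ : Matrix (Fin b) (Fin b) F) := hST
  obtain ⟨s, hsS⟩ := TensorUnitary.scalar_of_fix_slice hh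
    (S := (S : Matrix (Fin a) (Fin a) F)) (T := (T₀ : Matrix (Fin b) (Fin b) F))
    fun x => by rw [← hST']; exact hfix x
  have hs0 : s ≠ 0 := by
    rintro rfl
    rw [zero_smul] at hsS
    have h1 := Units.mul_inv S
    rw [hsS, zero_mul] at h1
    simpa using congrFun (congrFun h1 ⟨0, hs.apos⟩) ⟨0, hs.apos⟩
  have hgT : ∀ x y, mat Q g *ᵥ ten x y = ten x ((scGL b s hs0 * T₀ : GL (Fin b) F).val *ᵥ y) := fun x y => by
    rw [hST', kron_mulVec_ten, hsS, smul_mulVec, one_mulVec, scGL_mul_mulVec, ten_smul_left, ten_smul_right]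
  obtain ⟨x₀, z₀, hxz⟩ := hs.exists_pair₁
  have hiso : scGL b s hs0 * T₀ ∈ isoG B₂ := fun u u' => by
    have h := polar_mulVec Q g (ten x₀ u) (ten z₀ u')
    rw [hgT, hgT, hs.tset.polar, hs.tset.polar, hxz, one_mul, one_mul] at h
    exact h
  refine ⟨⟨_, hiso⟩, hs.ext_ten fun x y => by rw [hgT, hs.kR_ten], ?_⟩
  obtain ⟨x, hx⟩ := hs.exists_ne₁
  exact ten_inj_right hx (by rw [← hgT, hfix])

/-- The image of a pure slice. -/
theorem pure_data {y : Isom Q} {k : Fin b → F} (hk : k ≠ 0) (hy : Pure y k) :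
    ∃ φ, φ ≠ 0 ∧ ∃ A : (Fin a → F) ≃ₗ[F] (Fin a → F), (∀ x, mat Q y *ᵥ ten x k = ten (A x) φ) ∧
      ∀ x z, B₁ (A x) (A z) * B₂ φ φ = B₁ x z * B₂ k k := by
  obtain ⟨φ, hφ⟩ := hy
  have hφ0 : φ ≠ 0 := by
    rintro rfl
    obtain ⟨x, hx⟩ := hs.exists_ne₁
    obtain ⟨x', hx'⟩ := hφ x
    rw [ten_zero_right, ← mulVec_zero (mat Q y)] at hx'
    rcases ten_eq_zero.1 (mulVec_injective y hx') with h | h
    · exact hx h
    · exact hk h
  obtain ⟨w, hw⟩ := hs.tset.f₂.exists_one hφ0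
  rw [hs.symm₂] at hw
  let A : (Fin a → F) →ₗ[F] (Fin a → F) :=
    { toFun := fun x => evB B₂ w (mat Q y *ᵥ ten x k)
      map_add' := fun x x' => by rw [ten_add_left, mulVec_add, map_add]
      map_smul' := fun c x => by rw [ten_smul_left, mulVec_smul, map_smul, RingHom.id_apply] }
  have hA : ∀ x, mat Q y *ᵥ ten x k = ten (A x) φ := fun x => by
    obtain ⟨x', hx'⟩ := hφ x
    show _ = ten (evB B₂ w _) φ
    rw [hx', evB_ten, hw, one_smul]
  have hinj : Function.Injective A := fun x x' h =>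
    ten_inj_left hk (mulVec_injective y (show mat Q y *ᵥ _ = mat Q y *ᵥ _ by rw [hA, hA, h]))
  refine ⟨φ, hφ0, LinearEquiv.ofBijective A ⟨hinj, LinearMap.surjective_of_injective hinj⟩, hA, fun x z => ?_⟩
  have h := polar_mulVec Q y (ten x k) (ten z k)
  rw [hA, hA, hs.tset.polar, hs.tset.polar] at h
  exact h

/-- The image of an isotropic pure slice is isotropic. -/
theorem pure_iso {k φ : Fin b → F} {A : (Fin a → F) ≃ₗ[F] (Fin a → F)}
    (hA : ∀ x z, B₁ (A x) (A z) * B₂ φ φ = B₁ x z * B₂ k k) : B₂ k k = 0 ↔ B₂ φ φ = 0 := by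
  obtain ⟨x, z, hxz⟩ := hs.exists_pair₁
  have h := hA x z
  rw [hxz, one_mul] at h
  constructor
  · intro hk
    have h' := hA (A.symm x) (A.symm z)
    rw [A.apply_symm_apply, A.apply_symm_apply, hxz, one_mul, hk, mul_zero] at h'
    exact h'
  · intro hφ; rw [← h, hφ, mul_zero]

theorem sliceMap_of_pure {M : Subgroup (Isom Q)} {y : Isom Q} (hy : y ∈ M) (hyK : y ∉ Kr Q)
    {c : Fin b → F} (hc0 : c ≠ 0) (hc : B₂ c c = 0) (hp : Pure y c) : SliceMap B₂ M := by
  obtain ⟨φ, hφ0, A, hA, hA'⟩ := hs.pure_data hc0 hp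
  exact ⟨y, hy, hyK, c, φ, hc0, hc, hφ0, (hs.pure_iso hA').1 hc, fun x => ⟨A x, hA x⟩⟩

/-- A conjugate of a reflection acting only on the second factor gives a pure slice. -/
theorem pure_of_right {y : Isom Q} {k : Fin b → F} (hk : B₂ k k ≠ 0) {T : isoG B₂}
    (h : y * hs.R k * y⁻¹ = hs.kR T) : Pure y k := by
  have hk0 : k ≠ 0 := fun h => hk (by simp [h])
  obtain ⟨w, hw⟩ : ∃ w, (T.1 : Matrix (Fin b) (Fin b) F) *ᵥ w ≠ w := by
    by_contra! hcon
    have hT : T = 1 := hs.isoG_ext fun w => by rw [hcon, OneMemClass.coe_one, Units.val_one, one_mulVec]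
    rw [hT, map_one, mul_inv_eq_one, mul_eq_left] at h
    obtain ⟨x, hx⟩ := hs.exists_ne₁
    have h2 := hs.R_self hk x
    rw [h, mat_one, one_mulVec, eq_neg_iff_add_eq_zero, ← two_smul F, smul_eq_zero, ten_eq_zero] at h2
    exact (h2.resolve_left hs.two).elim hx hk0
  set φ := (T.1 : Matrix (Fin b) (Fin b) F) *ᵥ w - w with hφ
  have hφ0 : φ ≠ 0 := sub_ne_zero.2 hw
  let L : (Fin a → F) →ₗ[F] (Fin a → F) :=
    { toFun := fun z => -((2 / B₂ k k) • evB B₂ k (mat Q y⁻¹ *ᵥ ten z w))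
      map_add' := fun z z' => by rw [ten_add_left, mulVec_add, map_add, smul_add, neg_add]
      map_smul' := fun c z => by
        rw [ten_smul_left, mulVec_smul, map_smul, RingHom.id_apply, smul_comm, smul_neg] }
  have hL : ∀ z, mat Q y *ᵥ ten (L z) k = ten z φ := fun z => by
    have h1 := congrArg (fun g : Isom Q => mat Q g *ᵥ ten z w) h
    simp only [mat_mul, ← mulVec_mulVec, hs.kR_ten, hs.R_vec hk, mulVec_sub, mulVec_smul, mulVec_cancel'] at h1
    show mat Q y *ᵥ ten (-((2 / B₂ k k) • _)) k = _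
    rw [ten_neg_left, ten_smul_left, mulVec_neg, mulVec_smul, hφ, ten_sub_right, ← h1]
    abel
  have hinj : Function.Injective L := fun z z' hz => by
    refine ten_inj_left hφ0 ?_
    rw [← hL, ← hL, hz]
  refine ⟨φ, fun x => ?_⟩
  obtain ⟨z, rfl⟩ := LinearMap.surjective_of_injective hinj x
  exact ⟨z, hL z⟩

end ASet

end CfsgLib.TensorSlice
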