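import Cfsg.Agent.TensorOrthSlice.Slice
import Cfsg.Agent.Spinor.Omega

/-!
# Reflections of the second factor and the spinor norm
-/

set_option autoImplicit false
set_option linter.unusedSectionVars false

namespace CfsgLib.TensorSlice

open Matrix Module CfsgLib.Spinor CfsgLib.OrthMax CfsgLib.TensorOrth
open CfsgLib.TensorMax (Idx ten ten_add_left ten_add_right ten_smul_left ten_smul_right ten_eq_zero ten_inj_left
  ten_inj_right)
open CfsgLib.TensorUnitary (ten_induction)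

variable {F : Type*} [Field F] {a b : ℕ} {Q : QuadraticForm F (Idx a b → F)}
  {B₁ : LinearMap.BilinForm F (Fin a → F)} {B₂ : LinearMap.BilinForm F (Fin b → F)}

/-- An orthogonal basis of a non-degenerate symmetric form. -/
theorem exists_orth_basis {n : ℕ} {B : LinearMap.BilinForm F (Fin n → F)} (hB : Fac B 1) (h2 : (2 : F) ≠ 0) :
    ∃ v : Module.Basis (Fin n) F (Fin n → F), IsOrth B ⇑v := by
  letI : Invertible (2 : F) := invertibleOfNonzero h2
  obtain ⟨v, hv⟩ := LinearMap.BilinForm.exists_orthogonal_basis (B := B)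
    (LinearMap.isSymm_def.2 fun x y => by rw [hB.symm x y, one_mul]; rfl)
  refine ⟨v.reindex (finCongr (Module.finrank_fin_fun F)), fun i => ?_, fun i j hij => ?_⟩
  · rw [Basis.reindex_apply]
    exact LinearMap.BilinForm.iIsOrtho.not_isOrtho_basis_self_of_nondegenerate hv hB.nondeg _
  · rw [Basis.reindex_apply, Basis.reindex_apply]
    exact hv fun h => hij ((finCongr _).symm.injective h)

/-- The extension of a subgroup by a central involution. -/
def extend (M : Subgroup (Isom Q)) (z : Isom Q) (hc : ∀ g, g * z = z * g) (h1 : z * z = 1) :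
    Subgroup (Isom Q) where
  carrier := {g | g ∈ M ∨ g * z ∈ M}
  one_mem' := Or.inl M.one_mem
  mul_mem' {x y} hx hy := by
    rcases hx with hx | hx <;> rcases hy with hy | hy
    · exact Or.inl (M.mul_mem hx hy)
    · exact Or.inr (by rw [mul_assoc]; exact M.mul_mem hx hy)
    · exact Or.inr (by rw [mul_assoc, hc y, ← mul_assoc]; exact M.mul_mem hx hy)
    · refine Or.inl ?_
      have := M.mul_mem hx hy
      rwa [show x * z * (y * z) = x * (z * y) * z by group, ← hc y,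
        show x * (y * z) * z = x * y * (z * z) by group, h1, mul_one] at this
  inv_mem' {x} hx := by
    rcases hx with hx | hx
    · exact Or.inl (M.inv_mem hx)
    · refine Or.inr ?_
      have := M.inv_mem hx
      rwa [_root_.mul_inv_rev, inv_eq_of_mul_eq_one_right h1, ← hc] at this

namespace ASet

variable (hs : ASet Q B₁ B₂)
include hs

theorem quad_ten (x : Fin a → F) (y : Fin b → F) : Q (ten x y) = B₁ x x * B₂ y y / 2 := by
  rw [eq_div_iff hs.two, mul_comm, ← polar_self', hs.tset.polar]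

/-- The product of the reflections in an orthogonal family of tensors over one vector. -/
theorem prod_refl_ten {e : Fin b → F} (he : B₂ e e ≠ 0) {n : ℕ} {x : Fin n → Fin a → F} (hx : IsOrth B₁ x)
    (v : Idx a b → F) :
    ((List.ofFn fun i => ten (x i) e).map fun u => Cfsg.reflectionMatrix (⇑Q) u).prod *ᵥ v
      = v - (2 / B₂ e e) • ten (∑ i, (B₁ (evB B₂ e v) (x i) / B₁ (x i) (x i)) • x i) e := by
  induction n with
  | zero => simp [ten_eq_zero.2 (Or.inl rfl)]
  | succ n ih =>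
    rw [List.ofFn_succ, List.map_cons, List.prod_cons, ← mulVec_mulVec,
      ih (x := fun i => x i.succ) ⟨fun i => hx.1 i.succ, fun i j h => hx.2 _ _ (by simpa using h)⟩,
      reflectionMatrix_mulVec, refl_apply, QuadraticMap.polar_sub_right, QuadraticMap.polar_smul_right,
      hs.tset.polar, QuadraticMap.polar_comm (⇑Q) (ten (x 0) e) v, hs.tset.polar_ten, map_sum,
      Finset.sum_eq_zero (s := (Finset.univ : Finset (Fin n))) (f := fun i =>
        B₁ (x 0) ((B₁ (evB B₂ e v) (x i.succ) / B₁ (x i.succ) (x i.succ)) • x i.succ))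
        (fun i _ => by rw [map_smul, hx.2 0 i.succ (Fin.succ_ne_zero i).symm, smul_zero]),
      zero_mul, smul_zero, sub_zero, hs.quad_ten, Fin.sum_univ_succ, ten_add_left, smul_add, ten_smul_left,
      smul_smul]
    have h1 := hx.1 0
    have h2 := hs.two
    have h3 : (B₁ (x 0) (x 0) * B₂ e e / 2)⁻¹ * B₁ (evB B₂ e v) (x 0)
        = 2 / B₂ e e * (B₁ (evB B₂ e v) (x 0) / B₁ (x 0) (x 0)) := by field_simp
    rw [h3]
    abel

theorem expand₁ {x : Module.Basis (Fin a) F (Fin a → F)} (hx : IsOrth B₁ ⇑x) (u : Fin a → F) :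
    ∑ i, (B₁ u (x i) / B₁ (x i) (x i)) • x i = u := by
  refine sub_eq_zero.1 (hs.tset.f₁.sep fun w => ?_)
  refine LinearMap.congr_fun (x.ext (f₂ := (0 : (Fin a → F) →ₗ[F] F)) fun j => ?_) w
  rw [LinearMap.zero_apply, map_sub, LinearMap.sub_apply, map_sum, LinearMap.sum_apply, Finset.sum_eq_single j]
  · rw [map_smul, LinearMap.smul_apply, smul_eq_mul, div_mul_cancel₀ _ (hx.1 j), sub_self]
  · intro i _ hi
    rw [map_smul, LinearMap.smul_apply, hx.2 i j hi, smul_zero]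
  · simp

/-- A slice reflection as a product of reflections. -/
theorem R_isReflProd {x : Module.Basis (Fin a) F (Fin a → F)} (hx : IsOrth B₁ ⇑x) {e : Fin b → F}
    (he : B₂ e e ≠ 0) : IsReflProd Q (hs.R e) (List.ofFn fun i => ten (x i) e) := by
  refine ⟨fun v hv => ?_, Matrix.ext_iff_mulVec.2 fun v => ?_⟩
  · obtain ⟨i, rfl⟩ := List.mem_ofFn.1 hv
    rw [hs.quad_ten]
    exact div_ne_zero (mul_ne_zero (hx.1 i) he) hs.two
  · rw [hs.prod_refl_ten he hx, hs.R_vec he, hs.expand₁ hx]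

/-- Reflections in an orthogonal family negate it. -/
theorem prod_R_ten {y : Fin b → Fin b → F} (hy : IsOrth B₂ y) {l : List (Fin b)} (hl : l.Nodup) (x : Fin a → F)
    (k : Fin b) :
    mat Q (l.map fun i => hs.R (y i)).prod *ᵥ ten x (y k) = if k ∈ l then - ten x (y k) else ten x (y k) := by
  induction l with
  | nil => simp [mat_one]
  | cons i l ih =>
    obtain ⟨hil, hl⟩ := List.nodup_cons.1 hl
    rw [List.map_cons, List.prod_cons, mat_mul, ← mulVec_mulVec, ih hl]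
    rcases eq_or_ne k i with rfl | hki
    · rw [if_neg hil, if_pos List.mem_cons_self, hs.R_self (hy.1 k)]
    · have hmem : k ∈ i :: l ↔ k ∈ l := by simp [hki]
      by_cases hkl : k ∈ l
      · rw [if_pos hkl, if_pos (hmem.2 hkl), mulVec_neg, hs.R_fix_ten (hy.1 i) (hy.2 k i hki)]
      · rw [if_neg hkl, if_neg (fun h => hkl (hmem.1 h)), hs.R_fix_ten (hy.1 i) (hy.2 k i hki)]

variable [Fintype F]

/-- Minus the identity. -/
theorem exists_negI {x : Module.Basis (Fin a) F (Fin a → F)} (hx : IsOrth B₁ ⇑x)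
    {y : Module.Basis (Fin b) F (Fin b → F)} (hy : IsOrth B₂ ⇑y) :
    ∃ z : Isom Q, (∀ v, mat Q z *ᵥ v = -v) ∧ z ∈ Kr Q ∧ ∃ vs, IsReflProd Q z vs ∧ vs.length = b * a ∧
      (vs.map fun v => Q v).prod = (∏ i, B₁ (x i) (x i) / 2) ^ b * (∏ j, B₂ (y j) (y j)) ^ a := by
  have hlist : ∀ l : List (Fin b), ∃ vs, IsReflProd Q (l.map fun j => hs.R (y j)).prod vs ∧
      vs.length = l.length * a ∧ (vs.map fun v => Q v).prod
        = (∏ i, B₁ (x i) (x i) / 2) ^ l.length * (l.map fun j => B₂ (y j) (y j)).prod ^ a := by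
    intro l
    induction l with
    | nil => exact ⟨[], IsReflProd.one, by simp, by simp⟩
    | cons j l ih =>
      obtain ⟨vs, hvs, hlen, hprod⟩ := ih
      refine ⟨_, (hs.R_isReflProd hx (hy.1 j)).mul hvs, ?_, ?_⟩
      · rw [List.length_append, List.length_ofFn, hlen, List.length_cons]; ring
      · rw [List.map_append, List.prod_append, hprod, List.map_ofFn, List.prod_ofFn]
        simp only [Function.comp_apply, hs.quad_ten, List.map_cons, List.prod_cons, List.length_cons]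
        rw [show ∏ i, B₁ (x i) (x i) * B₂ (y j) (y j) / 2
            = (∏ i, B₁ (x i) (x i) / 2) * B₂ (y j) (y j) ^ a from by
          rw [show (fun i => B₁ (x i) (x i) * B₂ (y j) (y j) / 2)
            = fun i => B₁ (x i) (x i) / 2 * B₂ (y j) (y j) from funext fun i => mul_div_right_comm _ _ _,
            Finset.prod_mul_distrib, Finset.prod_const, Finset.card_univ, Fintype.card_fin]]
        ring
  obtain ⟨vs, hvs, hlen, hprod⟩ := hlist (List.finRange b)
  refine ⟨_, fun v => ?_, Subgroup.list_prod_mem _ fun g hg => ?_, vs, hvs, ?_, ?_⟩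
  · induction v using ten_induction with
    | hadd v w hv hw => rw [mulVec_add, hv, hw, neg_add]
    | h0 => simp
    | h u w =>
      rw [← y.sum_repr w]
      simp only [ten_sum_right, ten_smul_right, mulVec_sum, mulVec_smul,
        hs.prod_R_ten hy (List.nodup_finRange b), List.mem_finRange, if_true, smul_neg, Finset.sum_neg_distrib]
  · obtain ⟨j, -, rfl⟩ := List.mem_map.1 hg
    exact hs.R_mem _
  · rw [hlen, List.length_finRange]
  · rw [hprod, List.length_finRange, ← List.ofFn_eq_map, List.prod_ofFn]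

theorem neg_central {z : Isom Q} (hz : ∀ v, mat Q z *ᵥ v = -v) (g : Isom Q) : g * z = z * g :=
  hs.ext_ten fun x y => by rw [mat_mul, mat_mul, ← mulVec_mulVec, ← mulVec_mulVec, hz, hz, mulVec_neg]

omit [Fintype F] in
theorem neg_sq {z : Isom Q} (hz : ∀ v, mat Q z *ᵥ v = -v) : z * z = 1 :=
  hs.ext_ten fun x y => by rw [mat_mul, ← mulVec_mulVec, hz, hz, neg_neg, mat_one, one_mulVec]

/-- The classes of `-R`. -/
theorem neg_R_omega (hbo : Odd b) : ∃ z : Isom Q, (∀ v, mat Q z *ᵥ v = -v) ∧ z ∈ Kr Q ∧ ∃ C : F, C ≠ 0 ∧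
    (∀ e, B₂ e e ≠ 0 → (z * hs.R e ∈ Cfsg.Omega F ⇑Q ↔ (Even a ∨ IsSquare (C * B₂ e e)))) ∧
    ∀ e e', B₂ e e ≠ 0 → B₂ e' e' ≠ 0 → Odd a → IsSquare (B₂ e e * B₂ e' e') →
      hs.R e * hs.R e' ∈ Cfsg.Omega F ⇑Q := by
  obtain ⟨x, hx⟩ := exists_orth_basis hs.tset.f₁ hs.two
  obtain ⟨y, hy⟩ := exists_orth_basis hs.tset.f₂ hs.two
  obtain ⟨z, hz, hzK, vs, hvs, hlen, hprod⟩ := hs.exists_negI hx hy
  set D := ∏ i, B₁ (x i) (x i) / 2 with hD
  set W := ∏ j, B₂ (y j) (y j) with hW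
  have hD0 : D ≠ 0 := Finset.prod_ne_zero_iff.2 fun i _ => div_ne_zero (hx.1 i) hs.two
  have hW0 : W ≠ 0 := Finset.prod_ne_zero_iff.2 fun i _ => hy.1 i
  have hR : ∀ e, ((List.ofFn fun i => ten (x i) e).map fun v => Q v).prod = D * B₂ e e ^ a := fun e => by
    rw [List.map_ofFn, List.prod_ofFn, hD]
    simp only [Function.comp_apply, hs.quad_ten]
    rw [show (fun i => B₁ (x i) (x i) * B₂ e e / 2) = fun i => B₁ (x i) (x i) / 2 * B₂ e e from
      funext fun i => mul_div_right_comm _ _ _, Finset.prod_mul_distrib, Finset.prod_const, Finset.card_univ,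
      Fintype.card_fin]
  have hnd := hs.tset.nondeg
  obtain ⟨k, hk⟩ := hbo
  refine ⟨z, hz, hzK, W, hW0, fun e he => ?_, fun e e' he he' hao hee => ?_⟩
  · rw [mem_omega_iff hs.two hnd (hvs.mul (hs.R_isReflProd hx he))]
    rw [List.length_append, hlen, List.length_ofFn, List.map_append, List.prod_append, hprod, hR,
      show D ^ b * W ^ a * (D * B₂ e e ^ a) = (D ^ (k + 1) * D ^ (k + 1)) * (W * B₂ e e) ^ a by
        rw [show D ^ b = D ^ (k + 1) * D ^ k by rw [← pow_add]; congr 1; omega, mul_pow]; ring,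
      and_iff_right ⟨(k + 1) * a, by subst hk; ring⟩]
    rcases Nat.even_or_odd a with ⟨j, hj⟩ | ⟨j, hj⟩
    · refine iff_of_true ⟨D ^ (k + 1) * (W * B₂ e e) ^ j, ?_⟩ (Or.inl ⟨j, hj⟩)
      rw [hj, pow_add]; ring
    · rw [or_iff_right (Nat.not_even_iff_odd.2 ⟨j, hj⟩)]
      have hu : D ^ (k + 1) * (W * B₂ e e) ^ j ≠ 0 := mul_ne_zero (pow_ne_zero _ hD0)
        (pow_ne_zero _ (mul_ne_zero hW0 he))
      constructor
      · rintro ⟨r, hr⟩
        refine ⟨r / (D ^ (k + 1) * (W * B₂ e e) ^ j), ?_⟩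
        rw [div_mul_div_comm, ← hr, eq_div_iff (mul_ne_zero hu hu), hj]
        ring
      · rintro ⟨r, hr⟩
        refine ⟨D ^ (k + 1) * (W * B₂ e e) ^ j * r, ?_⟩
        rw [hj, pow_succ, hr, two_mul, pow_add]
        ring
  · rw [mem_omega_iff hs.two hnd ((hs.R_isReflProd hx he).mul (hs.R_isReflProd hx he')), List.length_append,
      List.length_ofFn, List.length_ofFn, List.map_append, List.prod_append, hR, hR]
    refine ⟨⟨a, rfl⟩, ?_⟩
    obtain ⟨r, hr⟩ := hee
    refine ⟨D * r ^ a, ?_⟩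
    rw [show D * B₂ e e ^ a * (D * B₂ e' e' ^ a) = D * D * (B₂ e e * B₂ e' e') ^ a by rw [mul_pow]; ring, hr,
      mul_pow]
    ring

variable {M : Subgroup (Isom Q)} (hΩ : ∀ g ∈ Cfsg.Omega F ⇑Q, g ∈ Kr Q → g ∈ M)
include hΩ

/-- For even first factor all reflections lie in the extension by minus the identity. -/
theorem exists_extend_even (hbo : Odd b) (hae : Even a) : ∃ M' : Subgroup (Isom Q), M ≤ M' ∧
    (∀ g ∈ M', ∃ m ∈ M, (g ∈ Kr Q ↔ m ∈ Kr Q) ∧ ∃ s : F, s * s = 1 ∧ ∀ v, mat Q m *ᵥ v = s • (mat Q g *ᵥ v)) ∧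
    ∀ e, B₂ e e ≠ 0 → hs.R e ∈ M' := by
  obtain ⟨z, hz, hzK, C, hC, hmem, -⟩ := hs.neg_R_omega hbo
  refine ⟨extend M z (hs.neg_central hz) (hs.neg_sq hz), fun g hg => Or.inl hg, ?_, fun e he => Or.inr ?_⟩
  · rintro g (hg | hg)
    · exact ⟨g, hg, Iff.rfl, 1, one_mul 1, fun v => (one_smul F _).symm⟩
    · refine ⟨g * z, hg, ((Kr Q).mul_mem_cancel_right hzK).symm, -1, by ring, fun v => ?_⟩
      rw [mat_mul, ← mulVec_mulVec, hz, mulVec_neg, neg_one_smul]
  · rw [hs.neg_central hz]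
    exact hΩ _ ((hmem e he).2 (Or.inl hae)) ((Kr Q).mul_mem hzK (hs.R_mem e))

/-- An element outside `Kr` gives a slice map. -/
theorem slice_of_overgroup (hbo : Odd b) (hb5 : 5 ≤ b) (hab : a ≠ b)
    (h3 : Odd a → Fintype.card F = 3 → 6 ≤ b) {g : Isom Q} (hg : g ∈ M) (hgK : g ∉ Kr Q) : SliceMap B₂ M := by
  obtain ⟨z, hz, hzK, C, hC, hmem, hpair⟩ := hs.neg_R_omega hbo
  set M' := extend M z (hs.neg_central hz) (hs.neg_sq hz) with hM'
  have hΩ' : ∀ g ∈ Cfsg.Omega F ⇑Q, g ∈ Kr Q → g ∈ M' := fun g h h' => Or.inl (hΩ g h h')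
  have hR : ∀ e, B₂ e e ≠ 0 → z * hs.R e ∈ Cfsg.Omega F ⇑Q → hs.R e ∈ M' := fun e _ h => by
    refine Or.inr ?_
    rw [hs.neg_central hz]
    exact hΩ _ h ((Kr Q).mul_mem hzK (hs.R_mem e))
  suffices hS : SliceMap B₂ M' by
    obtain ⟨m, hm | hm, hmK, c, c', hc0, hc, hc'0, hc', hmap⟩ := hS
    · exact ⟨m, hm, hmK, c, c', hc0, hc, hc'0, hc', hmap⟩
    · refine ⟨m * z, hm, fun h => hmK (((Kr Q).mul_mem_cancel_right hzK).1 h), c, c', hc0, hc, hc'0, hc',
        fun x => ?_⟩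
      obtain ⟨x', hx'⟩ := hmap x
      exact ⟨-x', by rw [mat_mul, ← mulVec_mulVec, hz, mulVec_neg, hx', ten_neg_left]⟩
  rcases Nat.even_or_odd a with hae | hao
  · exact hs.slice_full hbo (by omega) hab hΩ' hb5 (fun e he => hR e he ((hmem e he).2 (Or.inl hae)))
      (Or.inl hg : g ∈ M') hgK
  let κ : F → Prop := fun v => v ≠ 0 ∧ IsSquare (C * v)
  have hκ : Cls hs M' κ := by
    refine ⟨fun v h => h.1, fun v s h hs0 => ⟨mul_ne_zero (mul_ne_zero hs0 hs0) h.1, ?_⟩,
      fun e h => hR e h.1 ((hmem e h.1).2 (Or.inr h.2))⟩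
    rw [mul_left_comm]
    exact (IsSquare.mul_self s).mul h.2
  obtain ⟨ν, hν⟩ := FiniteField.exists_nonsquare (F := F) fun h => hs.two (by
    have : CharP F 2 := ringChar.of_eq h
    exact CharTwo.two_eq_zero)
  have hν0 : ν ≠ 0 := fun h => hν (h ▸ IsSquare.zero)
  obtain ⟨e₀, -, he₀⟩ := hs.exists_value hs.orth_elim0 (by omega) (C * ν)
  have he0 : B₂ e₀ e₀ ≠ 0 := by rw [he₀]; exact mul_ne_zero hC hν0
  have hne : ¬ κ (B₂ e₀ e₀) := fun h => hν (by
    obtain ⟨r, hr⟩ := h.2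
    refine ⟨r / C, ?_⟩
    rw [he₀] at hr
    field_simp
    linear_combination hr)
  refine hs.slice_one hbo (by omega) hab hΩ' hκ (v₀ := C) ⟨hC, IsSquare.mul_self C⟩ he0
    (fun e he hk => hΩ' _ (hpair e e₀ he he0 hao ?_) ((Kr Q).mul_mem (hs.R_mem e) (hs.R_mem e₀))) hne hb5
    (h3 hao) (Or.inl hg : g ∈ M') hgK
  have hk' : ¬ IsSquare (C * B₂ e e) := fun h => hk ⟨he, h⟩
  have hk₀ : ¬ IsSquare (C * B₂ e₀ e₀) := fun h => hne ⟨he0, h⟩
  obtain ⟨r, hr⟩ : IsSquare (C * B₂ e e * (C * B₂ e₀ e₀)) := by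
    classical
    rw [← quadraticChar_neg_one_iff_not_isSquare] at hk' hk₀
    rw [← quadraticChar_one_iff_isSquare (mul_ne_zero (mul_ne_zero hC he) (mul_ne_zero hC he0)), map_mul, hk',
      hk₀]
    norm_num
  refine ⟨r / C, ?_⟩
  field_simp
  linear_combination hr

end ASet

end CfsgLib.TensorSlice
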