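import Cfsg.Agent.TensorOrthSlice.Spread
import Cfsg.Agent.TensorSympOrth.Basic

/-!
# Conjugates of a slice reflection in the stabiliser
-/

set_option autoImplicit false
set_option linter.unusedSectionVars false

namespace CfsgLib.TensorSlice

open Matrix Module CfsgLib.Spinor CfsgLib.OrthMax CfsgLib.TensorOrth
open CfsgLib.TensorMax (Idx ten krG ten_add_left ten_add_right ten_smul_left
  ten_smul_right ten_eq_zero ten_inj_left ten_inj_right)

variable {F : Type*} [Field F] {a b : ℕ} {Q : QuadraticForm F (Idx a b → F)}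
  {B₁ : LinearMap.BilinForm F (Fin a → F)} {B₂ : LinearMap.BilinForm F (Fin b → F)}

theorem sum_ten_cols (v : Idx a b → F) : ∑ j, ten (fun i => v (i, j)) (Pi.single j 1) = v := by
  funext ⟨i, j⟩
  rw [Finset.sum_apply, Finset.sum_eq_single j]
  · simp [ten]
  · intro k _ hk; simp [ten, Ne.symm hk]
  · simp

theorem mulVec_left {g : Isom Q} {S : Matrix (Fin a) (Fin a) F}
    (hg : ∀ x y, mat Q g *ᵥ ten x y = ten (S *ᵥ x) y) (v : Idx a b → F) (j : Fin b) :
    (fun i => (mat Q g *ᵥ v) (i, j)) = S *ᵥ fun i => v (i, j) := by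
  induction v using TensorUnitary.ten_induction with
  | hadd u w hu hw =>
    rw [show (fun i => (u + w) (i, j)) = (fun i => u (i, j)) + fun i => w (i, j) from rfl, mulVec_add S,
      ← hu, ← hw, mulVec_add]
    rfl
  | h0 => rw [mulVec_zero, show (fun i => (0 : Idx a b → F) (i, j)) = 0 from rfl, mulVec_zero]
  | h x y =>
    rw [hg, show (fun i => ten (S *ᵥ x) y (i, j)) = y j • (S *ᵥ x) from funext fun i => mul_comm _ _,
      show (fun i => ten x y (i, j)) = y j • x from funext fun i => mul_comm _ _, mulVec_smul]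

/-- What is known at a level. -/
structure Lvl (hs : ASet Q B₁ B₂) (M : Subgroup (Isom Q)) (κ : F → Prop) {n : ℕ} (p : Fin n → Fin b → F) :
    Prop where
  cls : Cls hs M κ
  orth : IsOrth B₂ p
  odd : Odd b
  three : 3 ≤ b
  neab : a ≠ b
  omega : ∀ g ∈ Cfsg.Omega F ⇑Q, g ∈ Kr Q → g ∈ M
  nogrow : ¬ Grow B₂ M p
  spread : ∀ y ∈ M, y ∈ fixP Q p → y ∉ Kr Q → ∀ k, κ (B₂ k k) → (∀ i, B₂ k (p i) = 0) → ¬ Pure y k

namespace Lvl

variable [Fintype F] {hs : ASet Q B₁ B₂} {M : Subgroup (Isom Q)} {κ : F → Prop} {n : ℕ}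
  {p : Fin n → Fin b → F} (hl : Lvl hs M κ p)
include hl

/-- A conjugate of a reflection of left type is impossible. -/
theorem no_left {p₀ : Fin 0 → Fin b → F} (hG : ¬ Grow B₂ M p₀) {g : Isom Q} (hg : g ∈ M)
    {k : Fin b → F} (hk : B₂ k k ≠ 0) {S : GL (Fin a) F} (hS : S ∈ isoG B₁)
    (hm : ∀ x y, mat Q (g * hs.R k * g⁻¹) *ᵥ ten x y = ten ((S : Matrix (Fin a) (Fin a) F) *ᵥ x) y) : False := by
  classical
  have hk0 : k ≠ 0 := fun h => hk (by simp [h])
  have h₁ := hs.tset.f₁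
  set L : (Fin a → F) →ₗ[F] (Fin a → F) := (S : Matrix (Fin a) (Fin a) F).mulVecLin - LinearMap.id with hL
  have hLv : ∀ x, L x = (S : Matrix (Fin a) (Fin a) F) *ᵥ x - x := fun x => rfl
  set H := LinearMap.range L with hH
  set W := LinearMap.ker L with hW
  have hWv : ∀ x, x ∈ W ↔ (S : Matrix (Fin a) (Fin a) F) *ᵥ x = x := fun x => by
    rw [hW, LinearMap.mem_ker, hLv, sub_eq_zero]
  have hHW : ∀ x ∈ H, ∀ w ∈ W, B₁ x w = 0 := by
    rintro _ ⟨x, rfl⟩ w hw
    conv_lhs => rw [hLv, map_sub, LinearMap.sub_apply]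
    nth_rewrite 1 [← (hWv w).1 hw]
    rw [hS, sub_self]
  have hS2 : ∀ x, (S : Matrix (Fin a) (Fin a) F) *ᵥ ((S : Matrix (Fin a) (Fin a) F) *ᵥ x) = x := by
    intro x
    obtain ⟨y, hy⟩ : ∃ y : Fin b → F, y ≠ 0 := ⟨k, hk0⟩
    refine ten_inj_left hy ?_
    rw [← hm, ← hm, mulVec_mulVec, ← mat_mul,
      show g * hs.R k * g⁻¹ * (g * hs.R k * g⁻¹) = g * (hs.R k * hs.R k) * g⁻¹ by group, hs.R_sq, mul_one,
      mul_inv_cancel, mat_one, one_mulVec]
  -- the slice at `k` is moved onto the tensors with columns in `H`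
  have himg : ∀ v, ∃ z, mat Q (g * hs.R k * g⁻¹) *ᵥ v - v = mat Q g *ᵥ ten z k := fun v => by
    refine ⟨-((2 / B₂ k k) • evB B₂ k (mat Q g⁻¹ *ᵥ v)), ?_⟩
    rw [mat_mul, mat_mul, ← mulVec_mulVec, ← mulVec_mulVec, hs.R_vec hk, mulVec_sub, mulVec_cancel',
      ten_neg_left, ten_smul_left, mulVec_neg]
    abel
  have hcol : ∀ x j, (fun i => (mat Q g *ᵥ ten x k) (i, j)) ∈ H := by
    intro x j
    refine ⟨(-(2 : F)⁻¹) • fun i => (mat Q g *ᵥ ten x k) (i, j), ?_⟩
    have h1 : mat Q (g * hs.R k * g⁻¹) *ᵥ (mat Q g *ᵥ ten x k) = -(mat Q g *ᵥ ten x k) := by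
      rw [mat_mul, mat_mul, ← mulVec_mulVec, ← mulVec_mulVec, mulVec_cancel, hs.R_self hk, mulVec_neg]
    rw [map_smul, hLv, ← mulVec_left hm, h1]
    funext i
    simp only [Pi.smul_apply, Pi.sub_apply, Pi.neg_apply, smul_eq_mul]
    have := hs.two
    field_simp
    ring
  let J : (Fin a → F) →ₗ[F] (Idx a b → F) :=
    { toFun := fun x => mat Q g *ᵥ ten x k
      map_add' := fun x x' => by rw [ten_add_left, mulVec_add]
      map_smul' := fun c x => by rw [ten_smul_left, mulVec_smul, RingHom.id_apply] }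
  have hJ : colsIn b H ≤ LinearMap.range J := by
    intro v hv
    rw [← sum_ten_cols v]
    refine Submodule.sum_mem _ fun j _ => ?_
    obtain ⟨x, hx⟩ := hv j
    obtain ⟨z, hz⟩ := himg (ten x (Pi.single j 1))
    exact ⟨z, by show mat Q g *ᵥ ten z k = _; rw [← hz, hm, ← ten_sub_left, ← hLv, hx]⟩
  have hrank : b * finrank F H ≤ a := by
    rw [← finrank_colsIn]
    refine (Submodule.finrank_mono hJ).trans ((LinearMap.finrank_range_le J).trans_eq ?_)
    rw [Module.finrank_fin_fun]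
  have hH1 : 1 ≤ finrank F H := by
    by_contra! hlt
    have hH0 : H = ⊥ := Submodule.finrank_eq_zero.1 (by omega)
    obtain ⟨x, hx⟩ := hs.exists_ne₁
    have hzero : mat Q g *ᵥ ten x k = 0 := funext fun ⟨i, j⟩ => by
      have h := hcol x j
      rw [hH0, Submodule.mem_bot] at h
      exact congrFun h i
    rw [← mulVec_zero (mat Q g)] at hzero
    exact (ten_eq_zero.1 (mulVec_injective g hzero)).elim hx hk0
  have hrn := LinearMap.finrank_range_add_finrank_ker L
  rw [Module.finrank_fin_fun, ← hH, ← hW] at hrn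
  have hab : b < a := lt_of_le_of_ne (le_trans (Nat.le_mul_of_pos_right b hH1) hrank) (Ne.symm hl.neab)
  have h3H : 3 * finrank F H ≤ a := le_trans (Nat.mul_le_mul_right _ hl.three) hrank
  have hb3 := hl.three
  have hW3 : 3 ≤ finrank F W := by omega
  -- a Siegel element in `W`
  obtain ⟨γ, hγW, hγ0, hγ⟩ := h₁.exists_iso W hW3
  have havg : ∀ x, x + (S : Matrix (Fin a) (Fin a) F) *ᵥ x ∈ W := fun x => by
    rw [hWv, mulVec_add, hS2, add_comm]
  have hpair : ∀ x, ∀ w ∈ W, B₁ (x + (S : Matrix (Fin a) (Fin a) F) *ᵥ x) w = 2 * B₁ x w := fun x w hw => by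
    rw [map_add, LinearMap.add_apply]
    nth_rewrite 2 [← (hWv w).1 hw]
    rw [hS, two_mul]
  obtain ⟨x₁, hx₁⟩ := h₁.exists_one hγ0
  obtain ⟨d, hdW, hd, hdγ⟩ := h₁.exists_partner_in hγW (havg x₁) hγ
    (by rw [hpair _ _ hγW, hx₁, mul_one]; exact hs.two)
  obtain ⟨z, hzW, hzγ, hz⟩ : ∃ z ∈ W, B₁ z γ = 0 ∧ B₁ z z ≠ 0 := by
    have h4 := h₁.finrank_le_inf W γ
    have h5 := h₁.finrank_le_inf (W ⊓ cperp B₁ γ) d
    obtain ⟨w, hw, hw0⟩ := (Submodule.ne_bot_iff (W ⊓ cperp B₁ γ ⊓ cperp B₁ d)).1 fun h => by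
      rw [h, finrank_bot] at h5; omega
    have hwγ : B₁ w γ = 0 := hw.1.2
    have hwd : B₁ w d = 0 := hw.2
    by_cases hww : B₁ w w = 0
    swap
    · exact ⟨w, hw.1.1, hwγ, hww⟩
    obtain ⟨u, hu⟩ := h₁.exists_one hw0
    set u' := u + (S : Matrix (Fin a) (Fin a) F) *ᵥ u with hu'
    have hp := h₁.sub_mem_pair hγ hd hdγ u'
    set u'' := u' - B₁ u' γ • d - (1 * B₁ u' d) • γ with hu''
    have hu''W : u'' ∈ W := W.sub_mem (W.sub_mem (havg u) (W.smul_mem _ hdW)) (W.smul_mem _ hγW)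
    have hwu : B₁ u'' w = 2 := by
      rw [hu'', map_sub, map_sub, LinearMap.sub_apply, LinearMap.sub_apply, hu', hpair _ _ hw.1.1, hu, mul_one]
      simp [hs.symm₁ d w, hwd, hs.symm₁ γ w, hwγ]
    by_cases huu : B₁ u'' u'' = 0
    swap
    · exact ⟨u'', hu''W, hp.1, huu⟩
    refine ⟨w + u'', W.add_mem hw.1.1 hu''W, ?_, ?_⟩
    · rw [map_add, LinearMap.add_apply, hwγ, show B₁ u'' γ = 0 from hp.1, add_zero]
    · simp only [map_add, LinearMap.add_apply, hww, huu, hwu, hs.symm₁ w u'', zero_add, add_zero]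
      intro h
      exact mul_ne_zero hs.two hs.two (by linear_combination h)
  obtain ⟨kk, hkk⟩ := h₁.exists_param z
  set E := h₁.eGL hγ hzγ kk with hE
  have hn5 : 5 ≤ a * b := le_trans (by omega : 5 ≤ 4 * 3) (Nat.mul_le_mul (by omega) hb3)
  obtain ⟨e, heM, hev⟩ := hs.tset.exists_left hn5 hl.omega (h₁.eGL_mem hγ hzγ hkk)
  have hEH : ∀ x ∈ H, (E : Matrix (Fin a) (Fin a) F) *ᵥ x = x := fun x hx => by
    rw [hE, h₁.eGL_mulVec, esie_apply, hHW x hx γ hγW, hHW x hx z hzW]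
    simp
  have hfix : ∀ x, mat Q (g⁻¹ * e * g) *ᵥ ten x k = ten x k := fun x => by
    rw [mat_mul, mat_mul, ← mulVec_mulVec, ← mulVec_mulVec]
    have : mat Q e *ᵥ (mat Q g *ᵥ ten x k) = mat Q g *ᵥ ten x k := by
      conv_rhs => rw [← sum_ten_cols (mat Q g *ᵥ ten x k)]
      conv_lhs => rw [← sum_ten_cols (mat Q g *ᵥ ten x k), mulVec_sum]
      exact Finset.sum_congr rfl fun j _ => by rw [hev, hEH _ (hcol x j)]
    rw [this, mulVec_cancel]
  by_cases hK : g⁻¹ * e * g ∈ Kr Q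
  swap
  · refine hG (Or.inl ⟨k, hk, fun i => i.elim0, _, M.mul_mem (M.mul_mem (M.inv_mem hg) heM) hg, hK, fun i x => ?_⟩)
    induction i using Fin.lastCases with
    | last => rw [Fin.snoc_last]; exact hfix x
    | cast i => exact i.elim0
  obtain ⟨T, hT, -⟩ := hs.kr_fix hK hk0 hfix
  -- the square of `e - 1`
  have he2 : ∀ v, mat Q e *ᵥ (mat Q e *ᵥ v - v) - (mat Q e *ᵥ v - v)
      = ten γ (fun j => -(B₁ z z) * B₁ (fun i => v (i, j)) γ) := by
    intro v
    induction v using TensorUnitary.ten_induction with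
    | hadd u w hu hw =>
      rw [show (fun j => -(B₁ z z) * B₁ (fun i => (u + w) (i, j)) γ)
          = (fun j => -(B₁ z z) * B₁ (fun i => u (i, j)) γ) + fun j => -(B₁ z z) * B₁ (fun i => w (i, j)) γ from
        funext fun j => by
          rw [show (fun i => (u + w) (i, j)) = (fun i => u (i, j)) + fun i => w (i, j) from rfl, map_add,
            LinearMap.add_apply, Pi.add_apply, mul_add],
        ten_add_right, ← hu, ← hw]
      simp only [mulVec_add, mulVec_sub]
      abel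
    | h0 =>
      simp only [mulVec_zero, sub_self]
      refine (ten_eq_zero.2 (Or.inr (funext fun j => ?_))).symm
      rw [show (fun i => (0 : Idx a b → F) (i, j)) = 0 from rfl, map_zero, LinearMap.zero_apply, mul_zero,
        Pi.zero_apply]
    | h x y =>
      rw [show (fun j => -(B₁ z z) * B₁ (fun i => ten x y (i, j)) γ) = (-(B₁ z z) * B₁ x γ) • y from
        funext fun j => by
          rw [show (fun i => ten x y (i, j)) = y j • x from funext fun i => mul_comm _ _, map_smul,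
            LinearMap.smul_apply, Pi.smul_apply, smul_eq_mul, smul_eq_mul]
          ring,
        ten_smul_right, ← ten_smul_left, hev, ← ten_sub_left, hev, ← ten_sub_left]
      congr 1
      rw [h₁.eGL_mulVec, h₁.eGL_mulVec]
      simp only [esie_apply, map_add, map_sub, map_smul, LinearMap.add_apply, LinearMap.sub_apply,
        LinearMap.smul_apply, smul_eq_mul, one_mul, hγ, hzγ, hs.symm₁ γ z, hs.symm₁ z x]
      match_scalars <;> ring
  obtain ⟨w, hw⟩ : ∃ w, (T.1 : Matrix (Fin b) (Fin b) F) *ᵥ ((T.1 : Matrix (Fin b) (Fin b) F) *ᵥ w - w)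
      - ((T.1 : Matrix (Fin b) (Fin b) F) *ᵥ w - w) ≠ 0 := by
    by_contra! hcon
    obtain ⟨x, hx⟩ := h₁.exists_one hγ0
    have hall : ∀ v, mat Q (g⁻¹ * e * g) *ᵥ (mat Q (g⁻¹ * e * g) *ᵥ v - v)
        - (mat Q (g⁻¹ * e * g) *ᵥ v - v) = 0 := by
      intro v
      induction v using TensorUnitary.ten_induction with
      | hadd p q hp hq =>
        rw [mulVec_add, show mat Q (g⁻¹ * e * g) *ᵥ p + mat Q (g⁻¹ * e * g) *ᵥ q - (p + q)
          = (mat Q (g⁻¹ * e * g) *ᵥ p - p) + (mat Q (g⁻¹ * e * g) *ᵥ q - q) by abel, mulVec_add,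
          add_sub_add_comm, hp, hq, add_zero]
      | h0 => simp
      | h x y => rw [hT, hs.kR_ten, ← ten_sub_right, hs.kR_ten, ← ten_sub_right, hcon, ten_zero_right]
    have h := hall (mat Q g⁻¹ *ᵥ ten x k)
    have hge : ∀ v, mat Q (g⁻¹ * e * g) *ᵥ (mat Q g⁻¹ *ᵥ v) = mat Q g⁻¹ *ᵥ (mat Q e *ᵥ v) := fun v => by
      rw [mat_mul, mat_mul, ← mulVec_mulVec, ← mulVec_mulVec, mulVec_cancel']
    rw [hge, ← mulVec_sub, hge, ← mulVec_sub, ← mulVec_zero (mat Q g⁻¹)] at h
    have h' := mulVec_injective g⁻¹ h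
    rw [he2] at h'
    rcases ten_eq_zero.1 h' with h'' | h''
    · exact hγ0 h''
    · obtain ⟨j, hj⟩ := Function.ne_iff.1 hk0
      have := congrFun h'' j
      rw [show (fun i => ten x k (i, j)) = k j • x from funext fun i => mul_comm _ _, map_smul,
        LinearMap.smul_apply, hx, Pi.zero_apply, smul_eq_mul, mul_one] at this
      exact (mul_eq_zero.1 this).elim (fun h => hz (neg_eq_zero.1 h)) hj
  set ψ := (T.1 : Matrix (Fin b) (Fin b) F) *ᵥ ((T.1 : Matrix (Fin b) (Fin b) F) *ᵥ w - w)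
      - ((T.1 : Matrix (Fin b) (Fin b) F) *ᵥ w - w) with hψ
  have hmove : ∀ x, mat Q g *ᵥ ten x ψ = ten γ (fun j => -(B₁ z z) * B₁ (fun i => (mat Q g *ᵥ ten x w) (i, j)) γ) := by
    intro x
    have hge : ∀ v, mat Q g *ᵥ (mat Q (g⁻¹ * e * g) *ᵥ v) = mat Q e *ᵥ (mat Q g *ᵥ v) := fun v => by
      rw [mulVec_mulVec, ← mat_mul, ← mul_assoc, ← mul_assoc, mul_inv_cancel, one_mul, mat_mul, ← mulVec_mulVec]
    rw [← he2, ← hge, ← mulVec_sub, ← hge, ← mulVec_sub, hT, hs.kR_ten, ← ten_sub_right, hs.kR_ten,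
      ← ten_sub_right, hψ]
  let Λ : (Fin a → F) →ₗ[F] (Fin b → F) :=
    { toFun := fun x j => -(B₁ z z) * B₁ (fun i => (mat Q g *ᵥ ten x w) (i, j)) γ
      map_add' := fun x x' => funext fun j => by
        rw [ten_add_left, mulVec_add, show (fun i => (mat Q g *ᵥ ten x w + mat Q g *ᵥ ten x' w) (i, j))
          = (fun i => (mat Q g *ᵥ ten x w) (i, j)) + fun i => (mat Q g *ᵥ ten x' w) (i, j) from rfl, map_add,
          LinearMap.add_apply, Pi.add_apply, mul_add]
      map_smul' := fun c x => funext fun j => by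
        rw [ten_smul_left, mulVec_smul, show (fun i => (c • (mat Q g *ᵥ ten x w)) (i, j))
          = c • fun i => (mat Q g *ᵥ ten x w) (i, j) from rfl, map_smul, LinearMap.smul_apply, RingHom.id_apply,
          Pi.smul_apply, smul_eq_mul, smul_eq_mul]
        ring }
  have hΛ : Function.Injective Λ := fun x x' hxx => by
    refine ten_inj_left hw (mulVec_injective g ?_)
    show mat Q g *ᵥ ten x ψ = mat Q g *ᵥ ten x' ψ
    rw [hmove, hmove]
    exact congrArg (ten γ) hxx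
  have := LinearMap.finrank_le_finrank_of_injective hΛ
  rw [Module.finrank_fin_fun, Module.finrank_fin_fun] at this
  omega

/-- Conjugates of reflections in `Kr` come from `Kr`. -/
theorem mem_of_conj {e : Fin b → F} (he : κ (B₂ e e)) (hep : ∀ i, B₂ e (p i) = 0) {g : Isom Q} (hg : g ∈ M)
    (hgp : g ∈ fixP Q p) (hm : g * hs.R e * g⁻¹ ∈ Kr Q) : g ∈ Kr Q := by
  classical
  by_contra hgK
  have he0 := hl.cls.ne _ he
  refine hl.spread g hg hgp hgK e he hep ?_
  rcases Nat.eq_zero_or_pos n with rfl | hn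
  swap
  · have hmp : g * hs.R e * g⁻¹ ∈ fixP Q p :=
      (fixP Q p).mul_mem ((fixP Q p).mul_mem hgp (hs.R_fixP he0 hep)) ((fixP Q p).inv_mem hgp)
    obtain ⟨T, hT, -⟩ := hs.kr_fix hm (fun h => hl.orth.1 ⟨0, hn⟩ (by simp [h])) (hmp ⟨0, hn⟩)
    exact hs.pure_of_right he0 hT
  obtain ⟨S, hS, T, hST⟩ := hs.kr_cases hl.odd hm
  obtain ⟨x₀, z₀, hxz⟩ := hs.exists_pair₁
  by_cases hSs : ∀ u, ∃ c : F, (S : Matrix (Fin a) (Fin a) F) *ᵥ u = c • u
  · obtain ⟨c, hc⟩ : ∃ c : F, ∀ u, (S : Matrix (Fin a) (Fin a) F) *ᵥ u = c • u := by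
      have := hSs
      obtain ⟨c, hc⟩ := CfsgLib.TensorSympOrth.exists_scalar_of_eigen (S : Matrix (Fin a) (Fin a) F).mulVecLin this
      exact ⟨c, hc⟩
    have hc2 : c * c = 1 := by
      have h := hS x₀ z₀
      simp only [hc, map_smul, LinearMap.smul_apply, smul_eq_mul, hxz, mul_one] at h
      exact h
    refine hs.pure_of_right he0 (T := ⟨scGL b c (left_ne_zero_of_mul_eq_one hc2) * T.1, fun y y' => ?_⟩) ?_
    · simp only [scGL_mul_mulVec, map_smul, LinearMap.smul_apply, smul_eq_mul]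
      linear_combination (B₂ y y') * hc2 + (c * c) * (T.2 y y')
    · refine hs.ext_ten fun x y => ?_
      rw [hST, hs.kR_ten, scGL_mul_mulVec, ten_smul_right, hc, ten_smul_left]
  by_cases hTs : ∀ w, ∃ c : F, (T.1 : Matrix (Fin b) (Fin b) F) *ᵥ w = c • w
  · exfalso
    obtain ⟨c, hc⟩ := CfsgLib.TensorSympOrth.exists_scalar_of_eigen (T.1 : Matrix (Fin b) (Fin b) F).mulVecLin hTs
    obtain ⟨y₀, hy₀⟩ := hs.tset.f₂.exists_one (show e ≠ 0 from fun h => he0 (by simp [h]))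
    have hc2 : c * c = 1 := by
      have h := T.2 y₀ e
      simp only [show ∀ w, (T.1 : Matrix (Fin b) (Fin b) F) *ᵥ w = c • w from hc, map_smul, LinearMap.smul_apply,
        smul_eq_mul, hy₀, mul_one] at h
      exact h
    refine hl.no_left hl.nogrow hg he0 (S := scGL a c (left_ne_zero_of_mul_eq_one hc2) * S) (fun x x' => ?_)
      fun x y => ?_
    · simp only [scGL_mul_mulVec, map_smul, LinearMap.smul_apply, smul_eq_mul]
      rw [hS]
      linear_combination (B₁ x x') * hc2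
    · rw [hST, scGL_mul_mulVec, show (T.1 : Matrix (Fin b) (Fin b) F) *ᵥ y = c • y from hc y, ten_smul_right,
        ten_smul_left]
  exfalso
  push Not at hSs hTs
  obtain ⟨u₀, hu₀⟩ := hSs
  obtain ⟨w₀, hw₀⟩ := hTs
  have hu0 : u₀ ≠ 0 := fun h => hu₀ 0 (by rw [h, mulVec_zero, smul_zero])
  have hw0 : w₀ ≠ 0 := fun h => hw₀ 0 (by rw [h, mulVec_zero, smul_zero])
  have hk0 : e ≠ 0 := fun h => he0 (by simp [h])
  let J : (Fin a → F) →ₗ[F] (Idx a b → F) :=
    { toFun := fun x => mat Q g *ᵥ ten x e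
      map_add' := fun x x' => by rw [ten_add_left, mulVec_add]
      map_smul' := fun c x => by rw [ten_smul_left, mulVec_smul, RingHom.id_apply] }
  have himg : ∀ v, mat Q (g * hs.R e * g⁻¹) *ᵥ v - v ∈ LinearMap.range J := fun v => by
    refine ⟨-((2 / B₂ e e) • evB B₂ e (mat Q g⁻¹ *ᵥ v)), ?_⟩
    show mat Q g *ᵥ _ = _
    rw [mat_mul, mat_mul, ← mulVec_mulVec, ← mulVec_mulVec, hs.R_vec he0, mulVec_sub, mulVec_cancel',
      ten_neg_left, ten_smul_left, mulVec_neg]
    abel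
  let L : (Fin a → F) →ₗ[F] (Idx a b → F) :=
    { toFun := fun u => mat Q (g * hs.R e * g⁻¹) *ᵥ ten u w₀ - ten u w₀
      map_add' := fun u v => by rw [ten_add_left, mulVec_add]; abel
      map_smul' := fun c u => by rw [ten_smul_left, mulVec_smul, RingHom.id_apply, smul_sub] }
  obtain ⟨α, hα0, hα1⟩ := MaxSub.exists_dot_eq_zero_one (a := (T.1 : Matrix (Fin b) (Fin b) F) *ᵥ w₀) (b := w₀)
    (fun c hc => hw₀ c⁻¹ (by
      rcases eq_or_ne c 0 with rfl | hc0
      · exact absurd (by simpa using hc.symm) hw0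
      · conv_rhs => rw [← hc, smul_smul, inv_mul_cancel₀ hc0, one_smul]))
  have hrow : ∀ u w i, TensorUnitary.row (mat Q (g * hs.R e * g⁻¹) *ᵥ ten u w - ten u w) i
      = ((S : Matrix (Fin a) (Fin a) F) *ᵥ u) i • ((T.1 : Matrix (Fin b) (Fin b) F) *ᵥ w) - u i • w := by
    intro u w i
    rw [hST]
    rfl
  have hLinj : Function.Injective L := by
    rw [injective_iff_map_eq_zero]
    intro u hu
    funext i
    have h1 := congrArg (fun v : Idx a b → F => TensorUnitary.row v i ⬝ᵥ α) hu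
    simp only [L, LinearMap.coe_mk, AddHom.coe_mk, hrow, sub_dotProduct, smul_dotProduct, hα0, hα1, smul_eq_mul,
      mul_zero, mul_one] at h1
    rw [show TensorUnitary.row (0 : Idx a b → F) i = 0 from rfl, zero_dotProduct, zero_sub, neg_eq_zero] at h1
    exact h1
  have heq : LinearMap.range L = LinearMap.range J := by
    refine Submodule.eq_of_le_of_finrank_le ?_ ?_
    · rintro _ ⟨u, rfl⟩; exact himg _
    · rw [LinearMap.finrank_range_of_inj hLinj]
      exact (LinearMap.finrank_range_le J).trans_eq rfl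
  obtain ⟨β, hβ0, hβ1⟩ := MaxSub.exists_dot_eq_zero_one (a := (S : Matrix (Fin a) (Fin a) F) *ᵥ u₀) (b := u₀)
    (fun c hc => hu₀ c⁻¹ (by
      rcases eq_or_ne c 0 with rfl | hc0
      · exact absurd (by simpa using hc.symm) hu0
      · conv_rhs => rw [← hc, smul_smul, inv_mul_cancel₀ hc0, one_smul]))
  set W₂ := Submodule.span F ({(T.1 : Matrix (Fin b) (Fin b) F) *ᵥ w₀, w₀} : Set (Fin b → F)) with hW₂
  have hall : ∀ w, w ∈ W₂ := by
    intro w
    obtain ⟨u, hu⟩ : mat Q (g * hs.R e * g⁻¹) *ᵥ ten u₀ w - ten u₀ w ∈ LinearMap.range L := heq ▸ himg _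
    have hr : ∀ i, ((S : Matrix (Fin a) (Fin a) F) *ᵥ u₀) i • ((T.1 : Matrix (Fin b) (Fin b) F) *ᵥ w)
        - u₀ i • w ∈ W₂ := by
      intro i
      rw [← hrow, ← hu]
      show TensorUnitary.row (mat Q _ *ᵥ ten u w₀ - ten u w₀) i ∈ W₂
      rw [hrow]
      exact W₂.sub_mem (W₂.smul_mem _ (Submodule.subset_span (by simp)))
        (W₂.smul_mem _ (Submodule.subset_span (by simp)))
    have h2 := W₂.sum_mem (t := Finset.univ) fun i _ => W₂.smul_mem (β i) (hr i)
    simp only [smul_sub, smul_smul, Finset.sum_sub_distrib, ← Finset.sum_smul] at h2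
    have e1 : ∑ i, β i * ((S : Matrix (Fin a) (Fin a) F) *ᵥ u₀) i = 0 := by
      rw [← hβ0, dotProduct]; exact Finset.sum_congr rfl fun i _ => mul_comm _ _
    have e2 : ∑ i, β i * u₀ i = 1 := by
      rw [← hβ1, dotProduct]; exact Finset.sum_congr rfl fun i _ => mul_comm _ _
    rw [e1, e2, zero_smul, one_smul, zero_sub] at h2
    simpa using W₂.neg_mem h2
  have h3 := finrank_span_finset_le_card
    ({(T.1 : Matrix (Fin b) (Fin b) F) *ᵥ w₀, w₀} : Finset (Fin b → F)) (R := F)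
  rw [Finset.coe_insert, Finset.coe_singleton, Set.finrank, ← hW₂, Submodule.eq_top_iff'.mpr hall,
    finrank_top, Module.finrank_fin_fun] at h3
  have h4 : ({(T.1 : Matrix (Fin b) (Fin b) F) *ᵥ w₀, w₀} : Finset (Fin b → F)).card ≤ 2 := Finset.card_le_two
  have := hl.three
  omega

end Lvl

end CfsgLib.TensorSlice
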