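import Cfsg.Agent.TensorOrthSlice.Step

/-!
# A singular slice mapped to a singular slice
-/

set_option autoImplicit false
set_option linter.unusedSectionVars false

namespace CfsgLib.TensorSlice

open Matrix Module CfsgLib.Spinor CfsgLib.OrthMax CfsgLib.TensorOrth
open CfsgLib.TensorMax (Idx ten ten_add_right ten_smul_right ten_eq_zero ten_inj_left ten_inj_right)

variable {F : Type*} [Field F] [Fintype F] {a b : ℕ} {Q : QuadraticForm F (Idx a b → F)}
  {B₁ : LinearMap.BilinForm F (Fin a → F)} {B₂ : LinearMap.BilinForm F (Fin b → F)}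

namespace ASet

variable (hs : ASet Q B₁ B₂)
include hs

theorem orth_elim0 : IsOrth B₂ (Fin.elim0 : Fin 0 → Fin b → F) := ⟨fun i => i.elim0, fun i => i.elim0⟩

omit [Fintype F] in
theorem mem_fixP_elim0 (g : Isom Q) : g ∈ fixP Q (Fin.elim0 : Fin 0 → Fin b → F) := fun i => i.elim0

variable {M : Subgroup (Isom Q)} (hodd : Odd b) (hb : 3 ≤ b) (hab : a ≠ b)
  (hΩ : ∀ g ∈ Cfsg.Omega F ⇑Q, g ∈ Kr Q → g ∈ M)
include hodd hb hab hΩ

/-- A step when all reflections are available. -/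
theorem grow_full (hall : ∀ e, B₂ e e ≠ 0 → hs.R e ∈ M) {n : ℕ} {p : Fin n → Fin b → F} (hp : IsOrth B₂ p)
    (hn : n + 3 ≤ b) {g : Isom Q} (hg : g ∈ M) (hgp : g ∈ fixP Q p) (hgK : g ∉ Kr Q) : Grow B₂ M p := by
  by_contra hG
  have hκ : Cls hs M (fun v => v ≠ 0) :=
    ⟨fun v h => h, fun v s hv h0 => mul_ne_zero (mul_ne_zero h0 h0) hv, hall⟩
  have hl : Lvl hs M (fun v => v ≠ 0) p := ⟨hκ, hp, hodd, hb, hab, hΩ, hG,
    fun y hy hyp hyK k hk hkp hpk => hs.spread_full hκ hG hy hyp hyK (fun v h => h) hp hn hk hkp hpk⟩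
  exact hl.false_full (fun v h => h) hn hg hgp hgK

/-- A step with one class. -/
theorem grow_one {κ : F → Prop} (hκ : Cls hs M κ) {v₀ : F} (hv₀ : κ v₀) {n : ℕ} {p : Fin n → Fin b → F}
    (hp : IsOrth B₂ p) (hn : n + 4 ≤ b) (h3 : Fintype.card F = 3 → n + 5 ≤ b) {g : Isom Q} (hg : g ∈ M)
    (hgp : g ∈ fixP Q p) (hgK : g ∉ Kr Q) : Grow B₂ M p := by
  by_contra hG
  have hl : Lvl hs M κ p := ⟨hκ, hp, hodd, hb, hab, hΩ, hG,
    fun y hy hyp hyK k hk hkp hpk => hs.spread_one hκ hG hy hyp hyK hp hn h3 hk hkp hpk⟩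
  exact hl.false_one hv₀ hn hg hgp hgK

/-- In dimension three an element outside `Kr` fixes an anisotropic slice. -/
theorem exists_fixed_three (hb3 : b = 3) (hall : ∀ e, B₂ e e ≠ 0 → hs.R e ∈ M) {g : Isom Q} (hg : g ∈ M)
    (hgK : g ∉ Kr Q) : ∃ h, B₂ h h ≠ 0 ∧ ∃ y ∈ M, y ∉ Kr Q ∧ ∀ x, mat Q y *ᵥ ten x h = ten x h := by
  rcases hs.grow_full hodd hb hab hΩ hall hs.orth_elim0 (by omega) hg (hs.mem_fixP_elim0 g) hgK with
    ⟨h, hh, -, y, hy, hyK, hyp⟩ | ⟨h4, -⟩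
  · exact ⟨h, hh, y, hy, hyK, fun x => by simpa only [Fin.snoc_last] using hyp (Fin.last 0) x⟩
  · omega

/-- With all reflections, a singular slice is mapped to a singular slice. -/
theorem slice_full (hb5 : 5 ≤ b) (hall : ∀ e, B₂ e e ≠ 0 → hs.R e ∈ M) {g : Isom Q} (hg : g ∈ M)
    (hgK : g ∉ Kr Q) : SliceMap B₂ M := by
  rcases hs.grow_full hodd hb hab hΩ hall hs.orth_elim0 (by omega) hg (hs.mem_fixP_elim0 g) hgK with
    ⟨h₁, hh₁, hp₁, y₁, hy₁, hy₁K, hy₁p⟩ | ⟨-, hS⟩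
  swap
  · exact hS
  have o₁ := hs.orth_snoc hs.orth_elim0 hh₁ hp₁
  rcases hs.grow_full hodd hb hab hΩ hall o₁ (by omega) hy₁ hy₁p hy₁K with
    ⟨h₂, hh₂, hp₂, y₂, hy₂, hy₂K, hy₂p⟩ | ⟨-, hS⟩
  swap
  · exact hS
  have o₂ := hs.orth_snoc o₁ hh₂ hp₂
  rcases hs.grow_full hodd hb hab hΩ hall o₂ (by omega) hy₂ hy₂p hy₂K with
    ⟨h₃, hh₃, hp₃, y, hy, hyK, hyp⟩ | ⟨-, hS⟩
  swap
  · exact hS
  obtain ⟨hp₃', h32⟩ := hs.perp_snoc hp₃
  obtain ⟨-, h31⟩ := hs.perp_snoc hp₃'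
  obtain ⟨-, h21⟩ := hs.perp_snoc hp₂
  have fix : ∀ w ∈ ({h₁, h₂, h₃} : Set (Fin b → F)), Common y (LinearEquiv.refl F _) w := by
    rintro w hw
    refine ⟨w, fun x => ?_⟩
    rw [LinearEquiv.refl_apply]
    rcases hw with rfl | rfl | rfl
    · simpa only [Fin.snoc_castSucc, Fin.snoc_last] using hyp (Fin.last 0).castSucc.castSucc x
    · simpa only [Fin.snoc_castSucc, Fin.snoc_last] using hyp (Fin.last 1).castSucc x
    · simpa only [Fin.snoc_last] using hyp (Fin.last 2) x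
  exact hs.slice_of_three hy hyK hh₁ hh₂ hh₃ h21 h31 h32 (fix _ (by simp)) (fix _ (by simp)) (fix _ (by simp))

/-- With one class of reflections and the products of two others, a singular slice is mapped to a singular
slice. -/
theorem slice_one {κ : F → Prop} (hκ : Cls hs M κ) {v₀ : F} (hv₀ : κ v₀) {e₀ : Fin b → F} (he₀ : B₂ e₀ e₀ ≠ 0)
    (hpair : ∀ e, B₂ e e ≠ 0 → ¬ κ (B₂ e e) → hs.R e * hs.R e₀ ∈ M) (hne₀ : ¬ κ (B₂ e₀ e₀))
    (hb5 : 5 ≤ b) (h3 : Fintype.card F = 3 → 6 ≤ b) {g : Isom Q} (hg : g ∈ M) (hgK : g ∉ Kr Q) :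
    SliceMap B₂ M := by
  set R' := hs.R e₀ with hR'
  have hinv : R'⁻¹ = R' := hs.R_inv e₀
  have hR'2 : R' * R' = 1 := hs.R_sq e₀
  let M' : Subgroup (Isom Q) := M ⊓ M.comap (MulAut.conj R').toMonoidHom
  have hmem : ∀ x, x ∈ M' ↔ x ∈ M ∧ R' * x * R' ∈ M := fun x => by
    simp [M', Subgroup.mem_comap, MulAut.conj_apply, hinv]
  have hconj : ∀ x, x ∈ M' → R' * x * R' ∈ M' := fun x hx => by
    rw [hmem] at hx ⊢
    refine ⟨hx.2, ?_⟩
    rw [show R' * (R' * x * R') * R' = (R' * R') * x * (R' * R') by group, hR'2, one_mul, mul_one]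
    exact hx.1
  by_cases hout : ∃ x ∈ M', x ∉ Kr Q
  · obtain ⟨x₀, hx₀, hx₀K⟩ := hout
    -- the extension by the other reflection
    let Mf : Subgroup (Isom Q) :=
      { carrier := {x | x ∈ M' ∨ x * R' ∈ M'}
        one_mem' := Or.inl M'.one_mem
        mul_mem' := by
          rintro x y (hx | hx) (hy | hy)
          · exact Or.inl (M'.mul_mem hx hy)
          · exact Or.inr (by rw [mul_assoc]; exact M'.mul_mem hx hy)
          · refine Or.inr ?_
            have := M'.mul_mem hx (hconj y hy)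
            rwa [show x * R' * (R' * y * R') = x * (R' * R') * y * R' by group, hR'2, mul_one] at this
          · refine Or.inl ?_
            have := M'.mul_mem hx (hconj _ hy)
            rwa [show x * R' * (R' * (y * R') * R') = x * (R' * R') * y * (R' * R') by group, hR'2, mul_one,
              mul_one] at this
        inv_mem' := by
          rintro x (hx | hx)
          · exact Or.inl (M'.inv_mem hx)
          · refine Or.inr ?_
            have := hconj _ (M'.inv_mem hx)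
            rwa [show R' * (x * R')⁻¹ * R' = (R' * R'⁻¹) * x⁻¹ * R' by group, mul_inv_cancel, one_mul] at this }
    have hΩf : ∀ x ∈ Cfsg.Omega F ⇑Q, x ∈ Kr Q → x ∈ Mf := fun x hx hxK => by
      refine Or.inl ((hmem x).2 ⟨hΩ x hx hxK, hΩ _ ?_ ((Kr Q).mul_mem ((Kr Q).mul_mem (hs.R_mem e₀) hxK)
        (hs.R_mem e₀))⟩)
      have := (inferInstance : (Cfsg.Omega F ⇑Q).Normal).conj_mem x hx R'
      rwa [hinv] at this
    have hall : ∀ e, B₂ e e ≠ 0 → hs.R e ∈ Mf := fun e he => by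
      have hconjR : R' * hs.R e * R'
          = hs.R (((hs.rR e₀).1 : Matrix (Fin b) (Fin b) F) *ᵥ e) := by
        have := congrArg hs.kR (hs.rR_conj (hs.rR e₀) he)
        rwa [map_mul, map_mul, map_inv, show hs.kR (hs.rR e₀) = R' from rfl, hinv] at this
      have hval : B₂ (((hs.rR e₀).1 : Matrix (Fin b) (Fin b) F) *ᵥ e) (((hs.rR e₀).1 : Matrix (Fin b) (Fin b) F) *ᵥ e)
          = B₂ e e := (hs.rR e₀).2 e e
      by_cases hk : κ (B₂ e e)
      · exact Or.inl ((hmem _).2 ⟨hκ.mem e hk, by rw [hconjR]; exact hκ.mem _ (by rw [hval]; exact hk)⟩)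
      · refine Or.inr ((hmem _).2 ⟨hpair e he hk, ?_⟩)
        rw [show R' * (hs.R e * R') * R' = R' * hs.R e * R' * R' by group, hconjR]
        exact hpair _ (by rw [hval]; exact he) (by rw [hval]; exact hk)
    obtain ⟨m, hm, hmK, c, c', hc0, hc, hc'0, hc', hmap⟩ :=
      hs.slice_full hodd hb hab hΩf hb5 hall (Or.inl hx₀ : x₀ ∈ Mf) hx₀K
    rcases hm with hm | hm
    · exact ⟨m, hm.1, hmK, c, c', hc0, hc, hc'0, hc', hmap⟩
    refine ⟨m * R', hm.1, fun h => hmK ?_, ((hs.rR e₀).1 : Matrix (Fin b) (Fin b) F) *ᵥ c, c', fun h => hc0 ?_,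
      by rw [(hs.rR e₀).2]; exact hc, hc'0, hc', fun x => ?_⟩
    · have h1 := (Kr Q).mul_mem h (hs.R_mem e₀)
      rwa [← hR', mul_assoc, hR'2, mul_one] at h1
    · have h1 : ((hs.rR e₀ * hs.rR e₀).1 : Matrix (Fin b) (Fin b) F) *ᵥ c = 0 := by
        rw [hs.isoG_apply_mul, h, mulVec_zero]
      rwa [hs.rR_sq, hs.isoG_one] at h1
    · obtain ⟨x', hx'⟩ := hmap x
      refine ⟨x', ?_⟩
      rw [mat_mul, ← mulVec_mulVec, hR', ASet.R, hs.kR_ten, ← hs.isoG_apply_mul, hs.rR_sq, hs.isoG_one, hx']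
  push Not at hout
  rcases hs.grow_one hodd hb hab hΩ hκ hv₀ hs.orth_elim0 (by omega) (fun h => by have := h3 h; omega) hg
    (hs.mem_fixP_elim0 g) hgK with ⟨h₁, hh₁, hp₁, y₁, hy₁, hy₁K, hy₁p⟩ | ⟨-, hS⟩
  swap
  · exact hS
  have o₁ := hs.orth_snoc hs.orth_elim0 hh₁ hp₁
  rcases hs.grow_one hodd hb hab hΩ hκ hv₀ o₁ (by omega) (fun h => by have := h3 h; omega) hy₁ hy₁p hy₁K with
    ⟨h₂, hh₂, hp₂, y, hy, hyK, hyp⟩ | ⟨-, hS⟩
  swap
  · exact hS
  obtain ⟨-, h21⟩ := hs.perp_snoc hp₂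
  -- a vector of the other class in the plane
  obtain ⟨s, t, hst⟩ := MaxSub.exists_sq_add_sq hs.odd_card hh₁ hh₂ (B₂ e₀ e₀)
  set h := s • h₁ + t • h₂ with hh
  have hv : B₂ h h = B₂ e₀ e₀ := by
    simp only [hh, map_add, map_smul, LinearMap.add_apply, LinearMap.smul_apply, smul_eq_mul, h21, hs.symm₂ h₁ h₂]
    linear_combination hst
  have hfix : ∀ x, mat Q y *ᵥ ten x h = ten x h := fun x => by
    have f₁ : mat Q y *ᵥ ten x h₁ = ten x h₁ := by simpa only [Fin.snoc_castSucc, Fin.snoc_last] using hyp (Fin.last 0).castSucc x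
    have f₂ : mat Q y *ᵥ ten x h₂ = ten x h₂ := by simpa only [Fin.snoc_last] using hyp (Fin.last 1) x
    rw [hh, ten_add_right, ten_smul_right, ten_smul_right, mulVec_add, mulVec_smul, mulVec_smul, f₁, f₂]
  have hc := hs.commute_R (by rw [hv]; exact he₀) hfix
  have hp := hpair h (by rw [hv]; exact he₀) (by rw [hv]; exact hne₀)
  refine absurd (hout y ((hmem y).2 ⟨hy, ?_⟩)) hyK
  have h1 : R' * y * R' = (hs.R h * R')⁻¹ * y * (hs.R h * R') := by
    rw [_root_.mul_inv_rev, hinv, hs.R_inv, show R' * hs.R h * y * (hs.R h * R') = R' * (hs.R h * y * hs.R h) * R' by group,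
      ← hc, mul_assoc y, hs.R_sq, mul_one]
  rw [h1]
  exact M.mul_mem (M.mul_mem (M.inv_mem hp) hy) hp

end ASet

end CfsgLib.TensorSlice
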