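import Cfsg.Agent.TensorOrthSlice.Basic

/-!
# One pure anisotropic slice spreads to a singular slice
-/

set_option autoImplicit false
set_option linter.unusedSectionVars false

namespace CfsgLib.TensorSlice

open Matrix Module CfsgLib.Spinor CfsgLib.OrthMax CfsgLib.TensorOrth
open CfsgLib.TensorMax (Idx ten ten_add_left ten_add_right ten_smul_left
  ten_smul_right ten_eq_zero ten_inj_left ten_inj_right)

variable {F : Type*} [Field F] {a b : ℕ} {Q : QuadraticForm F (Idx a b → F)}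
  {B₁ : LinearMap.BilinForm F (Fin a → F)} {B₂ : LinearMap.BilinForm F (Fin b → F)}

/-- A class of values whose reflections lie in `M`. -/
structure Cls (hs : ASet Q B₁ B₂) (M : Subgroup (Isom Q)) (κ : F → Prop) : Prop where
  ne : ∀ v, κ v → v ≠ 0
  sq : ∀ v s, κ v → s ≠ 0 → κ (s * s * v)
  mem : ∀ e, κ (B₂ e e) → hs.R e ∈ M

/-- The slice at `k` is mapped to a slice through `A`. -/
def Common (y : Isom Q) (A : (Fin a → F) ≃ₗ[F] (Fin a → F)) (k : Fin b → F) : Prop :=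
  ∃ ψ, ∀ x, mat Q y *ᵥ ten x k = ten (A x) ψ

theorem Common.add {y : Isom Q} {A : (Fin a → F) ≃ₗ[F] (Fin a → F)} {k k' : Fin b → F}
    (h : Common y A k) (h' : Common y A k') : Common y A (k + k') := by
  obtain ⟨ψ, hψ⟩ := h
  obtain ⟨ψ', hψ'⟩ := h'
  exact ⟨ψ + ψ', fun x => by rw [ten_add_right, mulVec_add, hψ, hψ', ← ten_add_right]⟩

theorem Common.smul {y : Isom Q} {A : (Fin a → F) ≃ₗ[F] (Fin a → F)} {k : Fin b → F} (r : F)
    (h : Common y A k) : Common y A (r • k) := by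
  obtain ⟨ψ, hψ⟩ := h
  exact ⟨r • ψ, fun x => by rw [ten_smul_right, mulVec_smul, hψ, ← ten_smul_right]⟩

theorem Common.pure {y : Isom Q} {A : (Fin a → F) ≃ₗ[F] (Fin a → F)} {k : Fin b → F}
    (h : Common y A k) : Pure y k := by
  obtain ⟨ψ, hψ⟩ := h
  exact ⟨ψ, fun x => ⟨A x, hψ x⟩⟩

namespace ASet

variable (hs : ASet Q B₁ B₂)
include hs

/-- Removing the components along an orthogonal family. -/
theorem exists_proj {n : ℕ} {p : Fin n → Fin b → F} (hp : IsOrth B₂ p) (v : Fin b → F) :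
    ∃ v', (∀ i, B₂ v' (p i) = 0) ∧ ∀ x, (∀ i, B₂ x (p i) = 0) → B₂ x v' = B₂ x v := by
  classical
  refine ⟨v - ∑ j, (B₂ v (p j) / B₂ (p j) (p j)) • p j, fun i => ?_, fun x hx => ?_⟩
  · rw [map_sub, LinearMap.sub_apply, map_sum, LinearMap.sum_apply, Finset.sum_eq_single i]
    · rw [map_smul, LinearMap.smul_apply, smul_eq_mul, div_mul_cancel₀ _ (hp.1 i), sub_self]
    · intro j _ hj
      rw [map_smul, LinearMap.smul_apply, hp.2 j i hj, smul_zero]
    · simp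
  · rw [map_sub, map_sum, Finset.sum_eq_zero, sub_zero]
    exact fun j _ => by rw [map_smul, hx, smul_zero]

theorem exists_aniso_perp {n : ℕ} {p : Fin n → Fin b → F} (hp : IsOrth B₂ p) (hn : n < b) :
    ∃ h, B₂ h h ≠ 0 ∧ ∀ i, B₂ h (p i) = 0 := by
  obtain ⟨x, hx, hx0⟩ := (Submodule.ne_bot_iff (perp B₂ p)).1 fun h => by
    have := finrank_perp B₂ p
    rw [h, finrank_bot] at this
    omega
  rw [mem_perp] at hx
  by_cases h1 : B₂ x x = 0
  swap
  · exact ⟨x, h1, hx⟩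
  obtain ⟨z, hz⟩ := hs.tset.f₂.exists_one hx0
  obtain ⟨y, hy, hxy⟩ := hs.exists_proj hp z
  by_cases h2 : B₂ y y = 0
  swap
  · exact ⟨y, h2, hy⟩
  refine ⟨x + y, ?_, fun i => by rw [map_add, LinearMap.add_apply, hx, hy, add_zero]⟩
  rw [map_add, map_add, LinearMap.add_apply, LinearMap.add_apply, h1, h2, hs.symm₂ y x, hxy x hx,
    hs.symm₂ x z, hz, zero_add, add_zero, one_add_one_eq_two]
  exact hs.two

theorem orth_snoc {n : ℕ} {p : Fin n → Fin b → F} (hp : IsOrth B₂ p) {h : Fin b → F} (hh : B₂ h h ≠ 0)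
    (hperp : ∀ i, B₂ h (p i) = 0) : IsOrth B₂ (Fin.snoc p h : Fin (n + 1) → Fin b → F) := by
  refine ⟨fun i => ?_, fun i j hij => ?_⟩
  · induction i using Fin.lastCases with
    | last => rw [Fin.snoc_last]; exact hh
    | cast i => rw [Fin.snoc_castSucc]; exact hp.1 i
  · induction i using Fin.lastCases with
    | last =>
      induction j using Fin.lastCases with
      | last => exact absurd rfl hij
      | cast j => rw [Fin.snoc_last, Fin.snoc_castSucc]; exact hperp j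
    | cast i =>
      induction j using Fin.lastCases with
      | last => rw [Fin.snoc_last, Fin.snoc_castSucc, hs.symm₂]; exact hperp i
      | cast j =>
        rw [Fin.snoc_castSucc, Fin.snoc_castSucc]
        exact hp.2 i j fun h => hij (by rw [h])

theorem perp_snoc {n : ℕ} {p : Fin n → Fin b → F} {h x : Fin b → F}
    (hx : ∀ i, B₂ x ((Fin.snoc p h : Fin (n + 1) → Fin b → F) i) = 0) :
    (∀ i, B₂ x (p i) = 0) ∧ B₂ x h = 0 :=
  ⟨fun i => by simpa using hx i.castSucc, by simpa using hx (Fin.last n)⟩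

variable [Fintype F]

theorem odd_card : Odd (Fintype.card F) :=
  Nat.odd_iff.2 (FiniteField.odd_card_of_char_ne_two fun h => hs.two (by
    have : CharP F 2 := ringChar.of_eq h
    exact CharTwo.two_eq_zero))

/-- A vector of given value orthogonal to a family. -/
theorem exists_value {n : ℕ} {p : Fin n → Fin b → F} (hp : IsOrth B₂ p) (hn : n + 2 ≤ b) (v : F) :
    ∃ k, (∀ i, B₂ k (p i) = 0) ∧ B₂ k k = v := by
  obtain ⟨h₁, hh₁, hp₁⟩ := hs.exists_aniso_perp hp (by omega)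
  obtain ⟨h₂, hh₂, hp₂⟩ := hs.exists_aniso_perp (hs.orth_snoc hp hh₁ hp₁) (by omega)
  obtain ⟨hp₂, h21⟩ := hs.perp_snoc hp₂
  obtain ⟨x, y, hxy⟩ := MaxSub.exists_sq_add_sq hs.odd_card hh₁ hh₂ v
  refine ⟨x • h₁ + y • h₂, fun i => by simp [hp₁, hp₂], ?_⟩
  simp only [map_add, map_smul, LinearMap.add_apply, LinearMap.smul_apply, smul_eq_mul, hs.symm₂ h₁ h₂, h21]
  linear_combination hxy

omit [Fintype F] in
/-- Two pure vectors that are not orthogonal share their map. -/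
theorem common_of_nonorth {y : Isom Q} {k k' φ : Fin b → F} (hk' : B₂ k' k' ≠ 0)
    {A : (Fin a → F) ≃ₗ[F] (Fin a → F)} (hA : ∀ x, mat Q y *ᵥ ten x k = ten (A x) φ)
    (hp : Pure y k') (hkk : B₂ k k' ≠ 0) : Common y A k' := by
  obtain ⟨φ', -, A', hA', hA'2⟩ := hs.pure_data (fun h => hk' (by simp [h])) hp
  have h1 : ∀ x z, B₁ (A x) (A' z) * B₂ φ φ' = B₁ x z * B₂ k k' := fun x z => by
    rw [← hs.tset.polar, ← hA, ← hA', polar_mulVec, hs.tset.polar]
  have hs' : ∀ x, (B₂ φ φ' * B₂ k' k') • A x = (B₂ k k' * B₂ φ' φ') • A' x := by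
    intro x
    refine sub_eq_zero.1 (hs.tset.f₁.sep fun w => ?_)
    obtain ⟨z, rfl⟩ := A'.surjective w
    simp only [map_sub, map_smul, LinearMap.sub_apply, LinearMap.smul_apply, smul_eq_mul]
    linear_combination (B₂ k' k') * h1 x z - (B₂ k k') * hA'2 x z
  have hφ' : B₂ φ' φ' ≠ 0 := fun h => hk' ((hs.pure_iso hA'2).2 h)
  refine ⟨((B₂ φ φ' * B₂ k' k') / (B₂ k k' * B₂ φ' φ')) • φ', fun x => ?_⟩
  rw [hA', ten_smul_right, ← ten_smul_left, div_eq_inv_mul, ← smul_smul, hs', smul_smul,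
    inv_mul_cancel₀ (mul_ne_zero hkk hφ'), one_smul]

omit [Fintype F] in
/-- Two vectors sharing maps with a third share their map. -/
theorem common_pair {y : Isom Q} {k k₁ k₂ : Fin b → F} (hk₁ : B₂ k₁ k₁ ≠ 0) (hk₂ : B₂ k₂ k₂ ≠ 0)
    (hp : Pure y k) (hp₁ : Pure y k₁) (hp₂ : Pure y k₂) (h₁ : B₂ k k₁ ≠ 0) (h₂ : B₂ k k₂ ≠ 0) :
    ∃ A, Common y A k₁ ∧ Common y A k₂ := by
  obtain ⟨φ, -, A, hA, -⟩ := hs.pure_data (fun h => h₁ (by simp [h])) hp
  exact ⟨A, hs.common_of_nonorth hk₁ hA hp₁ h₁, hs.common_of_nonorth hk₂ hA hp₂ h₂⟩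

omit [Fintype F] in
theorem common_trans {y : Isom Q} {A A' : (Fin a → F) ≃ₗ[F] (Fin a → F)} {k k' : Fin b → F} (hk : k ≠ 0)
    (h : Common y A k) (h' : Common y A' k) (h'' : Common y A' k') : Common y A k' := by
  obtain ⟨ψ, hψ⟩ := h
  obtain ⟨ψ', hψ'⟩ := h'
  obtain ⟨χ, hχ⟩ := h''
  obtain ⟨x₀, hx₀⟩ := hs.exists_ne₁
  have hψ0 : ψ' ≠ 0 := by
    rintro rfl
    have h1 := hψ' x₀
    rw [ten_zero_right, ← mulVec_zero (mat Q y)] at h1
    exact (ten_eq_zero.1 (mulVec_injective y h1)).elim hx₀ hk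
  obtain ⟨μ, -, hμ⟩ := split_ten hs.apos (A := fun x => A x) (D := fun x => A' x)
    ⟨x₀, fun h => hx₀ (A.map_eq_zero_iff.1 h)⟩ hψ0 (fun x => by rw [← hψ, hψ'])
  exact ⟨μ • χ, fun x => by
    rw [hχ, show A' x = μ • A x from hμ x, ten_smul_left, ten_smul_right]⟩

/-- Three orthogonal vectors with a common map. -/
theorem slice_of_three {M : Subgroup (Isom Q)} {y : Isom Q} (hy : y ∈ M) (hyK : y ∉ Kr Q)
    {A : (Fin a → F) ≃ₗ[F] (Fin a → F)} {k₁ k₂ k₃ : Fin b → F} (h₁ : B₂ k₁ k₁ ≠ 0) (h₂ : B₂ k₂ k₂ ≠ 0)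
    (h₃ : B₂ k₃ k₃ ≠ 0) (h₁₂ : B₂ k₂ k₁ = 0) (h₁₃ : B₂ k₃ k₁ = 0) (h₂₃ : B₂ k₃ k₂ = 0)
    (c₁ : Common y A k₁) (c₂ : Common y A k₂) (c₃ : Common y A k₃) : SliceMap B₂ M := by
  obtain ⟨s, t, hst⟩ := MaxSub.exists_sq_add_sq hs.odd_card h₁ h₂ (-B₂ k₃ k₃)
  refine hs.sliceMap_of_pure hy hyK (c := s • k₁ + t • k₂ + k₃) (fun h => h₃ ?_) ?_
    (((c₁.smul s).add (c₂.smul t)).add c₃).pure
  · have h' := congrArg (fun w => B₂ w k₃) h
    simpa [hs.symm₂ k₁ k₃, hs.symm₂ k₂ k₃, h₁₃, h₂₃] using h'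
  · simp only [map_add, map_smul, LinearMap.add_apply, LinearMap.smul_apply, smul_eq_mul, hs.symm₂ k₁ k₂,
      hs.symm₂ k₁ k₃, hs.symm₂ k₂ k₃, h₁₂, h₁₃, h₂₃]
    linear_combination hst

omit [Fintype F] in
/-- In dimension three, three orthogonal vectors with a common map give an element of `Kr`. -/
theorem mem_Kr_of_three (hb : b ≤ 3) {y : Isom Q}
    {A : (Fin a → F) ≃ₗ[F] (Fin a → F)} {k₁ k₂ k₃ : Fin b → F} (h₁ : B₂ k₁ k₁ ≠ 0) (h₂ : B₂ k₂ k₂ ≠ 0)
    (h₃ : B₂ k₃ k₃ ≠ 0) (h₁₂ : B₂ k₂ k₁ = 0) (h₁₃ : B₂ k₃ k₁ = 0) (h₂₃ : B₂ k₃ k₂ = 0)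
    (c₁ : Common y A k₁) (c₂ : Common y A k₂) (c₃ : Common y A k₃) : y ∈ Kr Q := by
  have hp : IsOrth B₂ ![k₁, k₂, k₃] := by
    refine ⟨fun i => ?_, fun i j hij => ?_⟩
    · fin_cases i <;> assumption
    · fin_cases i <;> fin_cases j <;>
        first
        | exact absurd rfl hij
        | assumption
        | (simp [hs.symm₂ k₁ k₂, hs.symm₂ k₁ k₃, hs.symm₂ k₂ k₃, h₁₂, h₁₃, h₂₃])
  have hli : LinearIndependent F ![k₁, k₂, k₃] :=
    LinearMap.linearIndependent_of_isOrthoᵢ (B := B₂) (fun i j h => hp.2 i j h) fun i => hp.1 i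
  have hcard := hli.fintype_card_le_finrank
  rw [Fintype.card_fin, Module.finrank_fin_fun] at hcard
  have hspan := hli.span_eq_top_of_card_eq_finrank (by rw [Fintype.card_fin, Module.finrank_fin_fun]; omega)
  have hall : ∀ w, Common y A w := by
    intro w
    have hw : w ∈ Submodule.span F (Set.range ![k₁, k₂, k₃]) := hspan ▸ Submodule.mem_top
    obtain ⟨c, rfl⟩ := (Submodule.mem_span_range_iff_exists_fun F).1 hw
    simp only [Fin.sum_univ_three]
    exact ((c₁.smul _).add (c₂.smul _)).add (c₃.smul _)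
  obtain ⟨x₀, hx₀⟩ := hs.exists_ne₁
  obtain ⟨i, hi⟩ := Function.ne_iff.1 (fun h => hx₀ (A.map_eq_zero_iff.1 h) : A x₀ ≠ 0)
  let T : (Fin b → F) →ₗ[F] (Fin b → F) :=
    { toFun := fun w j => (mat Q y *ᵥ ten x₀ w) (i, j) / A x₀ i
      map_add' := fun w w' => funext fun j => by
        rw [ten_add_right, mulVec_add, Pi.add_apply, Pi.add_apply, add_div]
      map_smul' := fun c w => funext fun j => by
        rw [ten_smul_right, mulVec_smul, Pi.smul_apply, Pi.smul_apply, RingHom.id_apply, smul_eq_mul,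
          smul_eq_mul, mul_div_assoc] }
  refine hs.tset.mem_Kr_of_ten hs.apos hs.bpos A.toLinearMap T fun x w => ?_
  obtain ⟨ψ, hψ⟩ := hall w
  rw [hψ]
  refine congrArg (ten (A x)) (funext fun j => ?_)
  show ψ j = (mat Q y *ᵥ ten x₀ w) (i, j) / A x₀ i
  rw [hψ, eq_div_iff hi]
  exact mul_comm _ _

variable {M : Subgroup (Isom Q)} {κ : F → Prop} (hκ : Cls hs M κ) {n : ℕ} {p : Fin n → Fin b → F}
  (hG : ¬ Grow B₂ M p) {y : Isom Q} (hy : y ∈ M) (hyp : y ∈ fixP Q p) (hyK : y ∉ Kr Q)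
include hκ hG hy hyp hyK

omit [Fintype F] hyK in
/-- A conjugate of a reflection in `Kr` or one more slice. -/
theorem pure_of_conj {k h : Fin b → F} (hk : κ (B₂ k k)) (hkp : ∀ i, B₂ k (p i) = 0) (hh : B₂ h h ≠ 0)
    (hhp : ∀ i, B₂ h (p i) = 0) (hfix : ∀ x, mat Q (y * hs.R k * y⁻¹) *ᵥ ten x h = ten x h) : Pure y k := by
  have hk0 := hκ.ne _ hk
  have hmM : y * hs.R k * y⁻¹ ∈ M := M.mul_mem (M.mul_mem hy (hκ.mem k hk)) (M.inv_mem hy)
  by_cases hmK : y * hs.R k * y⁻¹ ∈ Kr Q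
  · obtain ⟨T, hT, -⟩ := hs.kr_fix hmK (fun h0 => hh (by simp [h0])) hfix
    exact hs.pure_of_right hk0 hT
  · refine absurd (Or.inl ⟨h, hh, hhp, _, hmM, hmK, ?_⟩) hG
    have hmp : y * hs.R k * y⁻¹ ∈ fixP Q p :=
      (fixP Q p).mul_mem ((fixP Q p).mul_mem hyp (hs.R_fixP hk0 hkp)) ((fixP Q p).inv_mem hyp)
    intro i x
    induction i using Fin.lastCases with
    | last => rw [Fin.snoc_last]; exact hfix x
    | cast i => rw [Fin.snoc_castSucc]; exact hmp i x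

omit [Fintype F] hyK in
/-- Vectors of the class orthogonal to a pure vector are pure. -/
theorem pure_close {k₀ k : Fin b → F} (hk₀ : B₂ k₀ k₀ ≠ 0) (hk₀p : ∀ i, B₂ k₀ (p i) = 0) (hp₀ : Pure y k₀)
    (hk : κ (B₂ k k)) (hkp : ∀ i, B₂ k (p i) = 0) (hkk : B₂ k k₀ = 0) : Pure y k := by
  obtain ⟨φ, -, A, hA, hA2⟩ := hs.pure_data (fun h => hk₀ (by simp [h])) hp₀
  refine hs.pure_of_conj hκ hG hy hyp hk hkp (h := φ) (fun h => hk₀ ((hs.pure_iso hA2).2 h)) (fun i => ?_)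
    (fun x => ?_)
  · obtain ⟨x, z, hxz⟩ := hs.exists_pair₁
    have h1 := polar_mulVec Q y (ten (A.symm x) k₀) (ten z (p i))
    rw [hA, hyp i z, hs.tset.polar, hs.tset.polar, A.apply_symm_apply, hxz, one_mul, hk₀p, mul_zero] at h1
    exact h1
  · obtain ⟨z, rfl⟩ := A.surjective x
    rw [mat_mul, mat_mul, ← mulVec_mulVec, ← mulVec_mulVec, ← hA, mulVec_cancel,
      hs.R_fix_ten (hκ.ne _ hk) (by rw [hs.symm₂, hkk]), hA]

omit [Fintype F] hyK in
/-- An element commuting with an isometry with eigenvectors of opposite signs. -/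
theorem pure_of_commute {T : isoG B₂} (hc : y * hs.kR T = hs.kR T * y) {ε : F} (hε : ε * ε = 1)
    {k h : Fin b → F} (hk : κ (B₂ k k)) (hkp : ∀ i, B₂ k (p i) = 0) (hh : B₂ h h ≠ 0)
    (hhp : ∀ i, B₂ h (p i) = 0) (hTk : (T.1 : Matrix (Fin b) (Fin b) F) *ᵥ k = ε • k)
    (hTh : (T.1 : Matrix (Fin b) (Fin b) F) *ᵥ h = (-ε) • h) : Pure y k := by
  refine hs.pure_of_conj hκ hG hy hyp hk hkp hh hhp fun x => ?_
  set v := mat Q y⁻¹ *ᵥ ten x h with hv
  have hTv : mat Q (hs.kR T) *ᵥ v = (-ε) • v := by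
    refine mulVec_injective y ?_
    show mat Q y *ᵥ _ = mat Q y *ᵥ _
    rw [mulVec_mulVec, ← mat_mul, hc, mat_mul, ← mulVec_mulVec, hv, mulVec_cancel', hs.kR_ten, hTh,
      ten_smul_right, mulVec_smul, mulVec_cancel']
  have hev : evB B₂ k v = 0 := by
    funext i
    rw [evB_apply, Pi.zero_apply]
    set w := fun j => v (i, j) with hw
    have h1 : (T.1 : Matrix (Fin b) (Fin b) F) *ᵥ w = (-ε) • w := by
      show _ *ᵥ TensorUnitary.row v i = _
      rw [← hs.row_kR, hTv]; rfl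
    have h2 := T.2 w k
    rw [h1, hTk] at h2
    simp only [map_smul, LinearMap.smul_apply, smul_eq_mul] at h2
    have : (2 : F) * B₂ w k = 0 := by linear_combination -h2 - (B₂ w k) * hε
    exact (mul_eq_zero.1 this).resolve_left hs.two
  rw [mat_mul, mat_mul, ← mulVec_mulVec, ← mulVec_mulVec, ← hv, hs.R_fix (hκ.ne _ hk) hev, hv, mulVec_cancel']

/-- All values allowed. -/
theorem spread_full (hfull : ∀ v, v ≠ 0 → κ v) (hp : IsOrth B₂ p) (hn : n + 3 ≤ b) {k₁ : Fin b → F}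
    (hk₁ : B₂ k₁ k₁ ≠ 0) (hk₁p : ∀ i, B₂ k₁ (p i) = 0) (hp₁ : Pure y k₁) : False := by
  have o₁ := hs.orth_snoc hp hk₁ hk₁p
  obtain ⟨k₂, hk₂, h₂⟩ := hs.exists_aniso_perp o₁ (by omega)
  obtain ⟨k₃, hk₃, h₃⟩ := hs.exists_aniso_perp (hs.orth_snoc o₁ hk₂ h₂) (by omega)
  obtain ⟨hk₂p, h21⟩ := hs.perp_snoc h₂
  obtain ⟨h₃, h32⟩ := hs.perp_snoc h₃
  obtain ⟨hk₃p, h31⟩ := hs.perp_snoc h₃
  have hp₂ : Pure y k₂ := hs.pure_close hκ hG hy hyp hk₁ hk₁p hp₁ (hfull _ hk₂) hk₂p h21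
  have hp₃ : Pure y k₃ := hs.pure_close hκ hG hy hyp hk₁ hk₁p hp₁ (hfull _ hk₃) hk₃p h31
  have h12 : B₂ k₁ k₂ = 0 := by rw [hs.symm₂, h21]
  have h13 : B₂ k₁ k₃ = 0 := by rw [hs.symm₂, h31]
  have h23 : B₂ k₂ k₃ = 0 := by rw [hs.symm₂, h32]
  have pair : ∀ u v w : Fin b → F, B₂ u u ≠ 0 → B₂ v v ≠ 0 → B₂ w w ≠ 0 → (∀ i, B₂ u (p i) = 0) →
      (∀ i, B₂ v (p i) = 0) → (∀ i, B₂ w (p i) = 0) → Pure y u → Pure y v → Pure y w → B₂ u v = 0 →
      B₂ u w = 0 → B₂ v w = 0 → B₂ u u + B₂ v v ≠ 0 → ∃ A, Common y A u ∧ Common y A v := by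
    intro u v w hu hv hw hup hvp hwp pu pv pw huv huw hvw hne
    have hval : B₂ (u + v) (u + v) = B₂ u u + B₂ v v := by simp [huv, hs.symm₂ v u]
    refine hs.common_pair hu hv (hs.pure_close hκ hG hy hyp hw hwp pw (hfull _ (by rwa [hval]))
      (fun i => by simp [hup, hvp]) (by simp [huw, hvw])) pu pv ?_ ?_
    · simpa [hs.symm₂ v u, huv] using hu
    · simpa [huv] using hv
  -- a common map on two vectors extends to the third
  have finish : ∀ u v w : Fin b → F, B₂ u u ≠ 0 → B₂ v v ≠ 0 → B₂ w w ≠ 0 → (∀ i, B₂ u (p i) = 0) →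
      (∀ i, B₂ v (p i) = 0) → (∀ i, B₂ w (p i) = 0) → Pure y u → Pure y v → Pure y w → B₂ u v = 0 →
      B₂ u w = 0 → B₂ v w = 0 → B₂ u u + B₂ v v ≠ 0 → False := by
    intro u v w hu hv hw hup hvp hwp pu pv pw huv huw hvw hne
    obtain ⟨A, cu, cv⟩ := pair u v w hu hv hw hup hvp hwp pu pv pw huv huw hvw hne
    suffices hcw : Common y A w by
      have e1 : B₂ v u = 0 := by rw [hs.symm₂, huv]
      have e2 : B₂ w u = 0 := by rw [hs.symm₂, huw]
      have e3 : B₂ w v = 0 := by rw [hs.symm₂, hvw]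
      rcases Nat.lt_or_ge b 4 with hb | hb
      · exact hyK (hs.mem_Kr_of_three (by omega) hu hv hw e1 e2 e3 cu cv hcw)
      · exact hG (Or.inr ⟨hb, hs.slice_of_three hy hyK hu hv hw e1 e2 e3 cu cv hcw⟩)
    by_cases euw : B₂ u u + B₂ w w = 0
    swap
    · obtain ⟨A', c1, c2⟩ := pair u w v hu hw hv hup hwp hvp pu pw pv huw huv (by rw [hs.symm₂, hvw]) euw
      exact hs.common_trans (fun h => hu (by simp [h])) cu c1 c2
    by_cases evw : B₂ v v + B₂ w w = 0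
    swap
    · obtain ⟨A', c1, c2⟩ := pair v w u hv hw hu hvp hwp hup pv pw pu hvw (by rw [hs.symm₂, huv])
        (by rw [hs.symm₂, huw]) evw
      exact hs.common_trans (fun h => hv (by simp [h])) cv c1 c2
    have hq : B₂ v v = B₂ u u := by linear_combination evw - euw
    have hd : B₂ (u - v) (u - v) ≠ 0 := by
      simp only [map_sub, LinearMap.sub_apply, huv, hs.symm₂ v u, hq]
      intro h
      exact hu ((mul_eq_zero.1 (show (2 : F) * B₂ u u = 0 by linear_combination h)).resolve_left hs.two)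
    have hk : B₂ (u + v + w) (u + v + w) = B₂ u u := by
      simp only [map_add, LinearMap.add_apply, huv, huw, hvw, hs.symm₂ v u, hs.symm₂ w u, hs.symm₂ w v]
      linear_combination evw
    obtain ⟨A', c1, c2⟩ := hs.common_pair hu hw (hs.pure_close hκ hG hy hyp hd (fun i => by simp [hup, hvp])
      (cu.add (cv.smul (-1)) |>.pure |> fun h => by simpa [sub_eq_add_neg] using h)
      (k := u + v + w) (hfull _ (by rw [hk]; exact hu)) (fun i => by simp [hup, hvp, hwp])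
      (by simp [huv, huw, hvw, hs.symm₂ v u, hs.symm₂ w u, hs.symm₂ w v, hq])) pu pw
      (by simpa [huv, huw, hs.symm₂ v u, hs.symm₂ w u] using hu)
      (by simpa [huw, hvw] using hw)
    exact hs.common_trans (fun h => hu (by simp [h])) cu c1 c2
  by_cases e12 : B₂ k₁ k₁ + B₂ k₂ k₂ = 0
  swap
  · exact finish k₁ k₂ k₃ hk₁ hk₂ hk₃ hk₁p hk₂p hk₃p hp₁ hp₂ hp₃ h12 h13 h23 e12
  by_cases e13 : B₂ k₁ k₁ + B₂ k₃ k₃ = 0
  swap
  · exact finish k₁ k₃ k₂ hk₁ hk₃ hk₂ hk₁p hk₃p hk₂p hp₁ hp₃ hp₂ h13 h12 h32 e13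
  refine finish k₂ k₃ k₁ hk₂ hk₃ hk₁ hk₂p hk₃p hk₁p hp₂ hp₃ hp₁ h23 h21 h31 fun e23 => hk₁ ?_
  exact (mul_eq_zero.1 (show (2 : F) * B₂ k₁ k₁ = 0 by linear_combination e12 + e13 - e23)).resolve_left hs.two

/-- One class of values. -/
theorem spread_one (hp : IsOrth B₂ p) (hn : n + 4 ≤ b) (h3 : Fintype.card F = 3 → n + 5 ≤ b)
    {k₁ : Fin b → F} (hk₁ : κ (B₂ k₁ k₁)) (hk₁p : ∀ i, B₂ k₁ (p i) = 0) (hp₁ : Pure y k₁) : False := by
  have hv : B₂ k₁ k₁ ≠ 0 := hκ.ne _ hk₁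
  set v := B₂ k₁ k₁ with hvdef
  have o₁ := hs.orth_snoc hp hv hk₁p
  obtain ⟨k₂, hk₂, e₂⟩ := hs.exists_value o₁ (by omega) v
  have o₂ := hs.orth_snoc o₁ (by rw [e₂]; exact hv) hk₂
  obtain ⟨k₃, hk₃, e₃⟩ := hs.exists_value o₂ (by omega) v
  have o₃ := hs.orth_snoc o₂ (by rw [e₃]; exact hv) hk₃
  obtain ⟨hk₂p, h21⟩ := hs.perp_snoc hk₂
  obtain ⟨hk₃', h32⟩ := hs.perp_snoc hk₃
  obtain ⟨hk₃p, h31⟩ := hs.perp_snoc hk₃'
  have h12 : B₂ k₁ k₂ = 0 := by rw [hs.symm₂, h21]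
  have h13 : B₂ k₁ k₃ = 0 := by rw [hs.symm₂, h31]
  have h23 : B₂ k₂ k₃ = 0 := by rw [hs.symm₂, h32]
  have hκv : ∀ {k : Fin b → F}, B₂ k k = v → κ (B₂ k k) := fun h => by rw [h]; exact hk₁
  have hp₂ : Pure y k₂ := hs.pure_close hκ hG hy hyp hv hk₁p hp₁ (hκv e₂) hk₂p h21
  have hp₃ : Pure y k₃ := hs.pure_close hκ hG hy hyp hv hk₁p hp₁ (hκv e₃) hk₃p h31
  have hn₂ : B₂ k₂ k₂ ≠ 0 := by rw [e₂]; exact hv
  have hn₃ : B₂ k₃ k₃ ≠ 0 := by rw [e₃]; exact hv
  -- joining all three gives a slice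
  have join : (∃ A, Common y A k₁ ∧ Common y A k₂) → (∃ A, Common y A k₂ ∧ Common y A k₃) → False := by
    rintro ⟨A, a1, a2⟩ ⟨A', b2, b3⟩
    exact hG (Or.inr ⟨by omega, hs.slice_of_three hy hyK hv hn₂ hn₃ h21 h31 h32 a1 a2
      (hs.common_trans (fun h => hn₂ (by simp [h])) a2 b2 b3)⟩)
  rcases Nat.lt_or_ge (n + 4) b with hb | hb
  · -- a fifth vector
    obtain ⟨w, hw, ew⟩ := hs.exists_value o₃ (by omega) (-v)
    obtain ⟨hw', w3⟩ := hs.perp_snoc hw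
    obtain ⟨hw'', w2⟩ := hs.perp_snoc hw'
    obtain ⟨hwp, w1⟩ := hs.perp_snoc hw''
    refine join (hs.common_pair hv hn₂ (hs.pure_close hκ hG hy hyp hn₃ hk₃p hp₃ (k := k₁ + k₂ + w) (hκv ?_)
      (fun i => by simp [hk₁p, hk₂p, hwp]) (by simp [h13, h23, w3])) hp₁ hp₂ ?_ ?_)
      (hs.common_pair hn₂ hn₃ (hs.pure_close hκ hG hy hyp hv hk₁p hp₁ (k := k₂ + k₃ + w) (hκv ?_)
      (fun i => by simp [hk₂p, hk₃p, hwp]) (by simp [h21, h31, w1])) hp₂ hp₃ ?_ ?_)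
    · simp only [map_add, LinearMap.add_apply, h12, h21, hs.symm₂ k₁ w, hs.symm₂ k₂ w, w1, w2, ew, e₂, ← hvdef]
      ring
    · simpa [h21, w1] using hv
    · simpa [h12, w2] using hn₂
    · simp only [map_add, LinearMap.add_apply, h23, h32, hs.symm₂ k₂ w, hs.symm₂ k₃ w, w2, w3, ew, e₂, e₃]
      ring
    · simpa [h32, w2] using hn₂
    · simpa [h23, w3] using hn₃
  have hq3 : Fintype.card F ≠ 3 := fun h => by have := h3 h; omega
  obtain ⟨q', hq'⟩ := hs.odd_card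
  have hq1 : 1 < Fintype.card F := Fintype.one_lt_card
  rcases Nat.lt_or_ge (Fintype.card F) 7 with h7 | h7
  · -- five elements
    have h5 : Fintype.card F = 5 := by omega
    obtain ⟨d, hd, ed⟩ := hs.exists_aniso_perp o₃ (by omega)
    obtain ⟨ed', d3⟩ := hs.perp_snoc ed
    obtain ⟨ed'', d2⟩ := hs.perp_snoc ed'
    obtain ⟨hdp, d1⟩ := hs.perp_snoc ed''
    have h5' : (5 : F) = 0 := by
      have := FiniteField.cast_card_eq_zero F
      rw [h5] at this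
      exact_mod_cast this
    set r := B₂ d d / v with hr
    have hr0 : r ≠ 0 := div_ne_zero hd hv
    have hr4 : r ^ 4 = 1 := by
      have := FiniteField.pow_card_sub_one_eq_one r hr0
      rwa [h5] at this
    obtain ⟨ε, σ, hσ, hε⟩ : ∃ ε σ : F, σ ≠ 0 ∧ 2 + r * (ε * ε) = σ * σ := by
      have h1 : (r - 1) * (r + 1) * ((r - 2) * (r + 2)) = 0 := by
        linear_combination hr4 + (-(r * r) + 1) * h5'
      rcases mul_eq_zero.1 h1 with h | h <;> rcases mul_eq_zero.1 h with h | h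
      · exact ⟨2, 1, one_ne_zero, by linear_combination 4 * h + h5'⟩
      · exact ⟨1, 1, one_ne_zero, by linear_combination h⟩
      · exact ⟨1, 2, hs.two, by linear_combination h⟩
      · exact ⟨2, 2, hs.two, by linear_combination 4 * h - 2 * h5'⟩
    have hval : B₂ (k₂ + k₃ + ε • d) (k₂ + k₃ + ε • d) = σ * σ * v := by
      simp only [map_add, map_smul, LinearMap.add_apply, LinearMap.smul_apply, smul_eq_mul, h23, h32,
        hs.symm₂ k₂ d, hs.symm₂ k₃ d, d2, d3, e₂, e₃, show B₂ d d = r * v by rw [hr, div_mul_cancel₀ _ hv]]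
      linear_combination v * hε
    obtain ⟨A, a2, a3⟩ := hs.common_pair hn₂ hn₃ (hs.pure_close hκ hG hy hyp hv hk₁p hp₁
      (k := k₂ + k₃ + ε • d) (by rw [hval]; exact hκ.sq _ _ hk₁ hσ) (fun i => by simp [hk₂p, hk₃p, hdp])
      (by simp [h21, h31, d1])) hp₂ hp₃ (by simpa [h32, d2] using hn₂) (by simpa [h23, d3] using hn₃)
    refine hG (Or.inr ⟨by omega, hs.sliceMap_of_pure hy hyK (c := k₂ + (2 : F) • k₃) (fun h => hn₂ ?_) ?_
      (a2.add (a3.smul 2)).pure⟩)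
    · have h' := congrArg (fun w => B₂ w k₂) h
      simpa [h32] using h'
    · simp only [map_add, map_smul, LinearMap.add_apply, LinearMap.smul_apply, smul_eq_mul, h23, h32, e₂, e₃]
      linear_combination v * h5'
  · -- at least seven elements
    obtain ⟨w, hw0, hw4⟩ : ∃ w : F, w ≠ 0 ∧ w ^ 4 ≠ 1 := by
      classical
      by_contra! hcon
      have hsub : Finset.univ.erase (0 : F) ⊆ (Polynomial.nthRoots 4 (1 : F)).toFinset := fun x hx => by
        rw [Multiset.mem_toFinset, Polynomial.mem_nthRoots (by norm_num)]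
        exact hcon x (Finset.ne_of_mem_erase hx)
      have h1 := (Finset.card_le_card hsub).trans
        ((Multiset.toFinset_card_le _).trans (Polynomial.card_nthRoots 4 (1 : F)))
      rw [Finset.card_erase_of_mem (Finset.mem_univ _), Finset.card_univ] at h1
      omega
    set t := (w - w⁻¹) / 2 with ht
    set u := (w + w⁻¹) / 2 with hu
    have h2 := hs.two
    have htu : 1 + t * t = u * u := by rw [ht, hu]; field_simp; ring
    have ht0 : t ≠ 0 := by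
      intro h
      rw [ht, div_eq_zero_iff, or_iff_left h2, sub_eq_zero] at h
      exact hw4 (by field_simp at h; linear_combination (w ^ 2 + 1) * h)
    have hu0 : u ≠ 0 := by
      intro h
      rw [hu, div_eq_zero_iff, or_iff_left h2] at h
      exact hw4 (by field_simp at h; linear_combination (w ^ 2 - 1) * h)
    refine join (hs.common_pair hv hn₂ (hs.pure_close hκ hG hy hyp hn₃ hk₃p hp₃ (k := k₁ + t • k₂) ?_
      (fun i => by simp [hk₁p, hk₂p]) (by simp [h13, h23])) hp₁ hp₂ ?_ ?_)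
      (hs.common_pair hn₂ hn₃ (hs.pure_close hκ hG hy hyp hv hk₁p hp₁ (k := k₂ + t • k₃) ?_
      (fun i => by simp [hk₂p, hk₃p]) (by simp [h21, h31])) hp₂ hp₃ ?_ ?_)
    · have hval : B₂ (k₁ + t • k₂) (k₁ + t • k₂) = u * u * v := by
        simp only [map_add, map_smul, LinearMap.add_apply, LinearMap.smul_apply, smul_eq_mul, h12, h21, e₂,
          ← hvdef]
        linear_combination v * htu
      rw [hval]; exact hκ.sq _ _ hk₁ hu0
    · simpa [h21] using hv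
    · simp [h12, ht0, hn₂]
    · have hval : B₂ (k₂ + t • k₃) (k₂ + t • k₃) = u * u * v := by
        simp only [map_add, map_smul, LinearMap.add_apply, LinearMap.smul_apply, smul_eq_mul, h23, h32, e₂, e₃]
        linear_combination v * htu
      rw [hval]; exact hκ.sq _ _ hk₁ hu0
    · simpa [h32] using hn₂
    · simp [h23, ht0, hn₃]

end ASet

end CfsgLib.TensorSlice
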