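import Cfsg.Agent.TensorOrthSlice.Recognise
import Cfsg.Agent.TensorSympOrth.Recognise

/-!
# One more fixed slice
-/

set_option autoImplicit false
set_option linter.unusedSectionVars false

namespace CfsgLib.TensorSlice

open Matrix Module CfsgLib.Spinor CfsgLib.OrthMax CfsgLib.TensorOrth
open CfsgLib.TensorMax (Idx ten ten_smul_left ten_smul_right ten_eq_zero ten_inj_left ten_inj_right)

variable {F : Type*} [Field F] {a b : ℕ} {Q : QuadraticForm F (Idx a b → F)}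
  {B₁ : LinearMap.BilinForm F (Fin a → F)} {B₂ : LinearMap.BilinForm F (Fin b → F)}

namespace ASet

variable (hs : ASet Q B₁ B₂)
include hs

theorem det_sq (T : isoG B₂) : (T.1 : Matrix (Fin b) (Fin b) F).det * (T.1 : Matrix (Fin b) (Fin b) F).det = 1 := by
  set G := LinearMap.BilinForm.toMatrix' B₂ with hG
  have hG0 : G.det ≠ 0 := by
    rw [← LinearMap.BilinForm.nondegenerate_toBilin'_iff_det_ne_zero, hG, Matrix.toBilin'_toMatrix']
    exact hs.tset.f₂.nondeg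
  have hcomp : B₂.comp (Matrix.toLin' (T.1 : Matrix (Fin b) (Fin b) F))
      (Matrix.toLin' (T.1 : Matrix (Fin b) (Fin b) F)) = B₂ :=
    LinearMap.ext₂ fun y y' => by
      rw [LinearMap.BilinForm.comp_apply, Matrix.toLin'_apply, Matrix.toLin'_apply]; exact T.2 y y'
  have hdet := congrArg (fun C => (LinearMap.BilinForm.toMatrix' C).det) hcomp
  simp only [LinearMap.BilinForm.toMatrix'_comp, LinearMap.toMatrix'_toLin', ← hG, det_mul, det_transpose] at hdet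
  exact mul_right_cancel₀ hG0 (by linear_combination hdet)

theorem isoG_apply_mul (S T : isoG B₂) (y : Fin b → F) :
    ((S * T).1 : Matrix (Fin b) (Fin b) F) *ᵥ y
      = (S.1 : Matrix (Fin b) (Fin b) F) *ᵥ ((T.1 : Matrix (Fin b) (Fin b) F) *ᵥ y) := by
  show ((S.1 * T.1 : GL (Fin b) F) : Matrix (Fin b) (Fin b) F) *ᵥ y = _
  rw [Units.val_mul, mulVec_mulVec]

theorem isoG_one (y : Fin b → F) : ((1 : isoG B₂).1 : Matrix (Fin b) (Fin b) F) *ᵥ y = y := by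
  rw [OneMemClass.coe_one, Units.val_one, one_mulVec]

/-- An involution fixes or negates a vector whose reflection it centralises. -/
theorem eig_of_comm {E : isoG B₂} (hE : E * E = 1) {k : Fin b → F} (hk : B₂ k k ≠ 0)
    (hc : hs.kR (hs.rR k * E) * hs.kR E = hs.kR E * hs.kR (hs.rR k * E)) :
    (E.1 : Matrix (Fin b) (Fin b) F) *ᵥ k = k ∨ (E.1 : Matrix (Fin b) (Fin b) F) *ᵥ k = -k := by
  rw [← map_mul, ← map_mul] at hc
  have h1 := hs.kR_inj hc
  rw [mul_assoc, hE, mul_one, ← mul_assoc] at h1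
  have hinv : E⁻¹ = E := inv_eq_of_mul_eq_one_right hE
  have h2 : hs.rR ((E.1 : Matrix (Fin b) (Fin b) F) *ᵥ k) = hs.rR k := by
    rw [← hs.rR_conj E hk, hinv]; exact h1.symm
  set k' := (E.1 : Matrix (Fin b) (Fin b) F) *ᵥ k with hk'
  have hv : B₂ k' k' = B₂ k k := E.2 k k
  have h3 := hs.rR_eq (e := k') (by rw [hv]; exact hk) hk h2
  set c := B₂ k' k / B₂ k k
  have hc2 : c * c = 1 := by
    have := congrArg (fun u => B₂ u u) h3
    simp only [map_smul, LinearMap.smul_apply, smul_eq_mul, hv] at this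
    exact mul_right_cancel₀ hk (by linear_combination -this)
  rcases mul_self_eq_one_iff.1 hc2 with h | h
  · left; rw [h3, h, one_smul]
  · right; rw [h3, h, neg_one_smul]

/-- A reflection is not the product of two. -/
theorem rR_ne_plane {k e₁ e₂ : Fin b → F} (hk : B₂ k k ≠ 0) (he₁ : B₂ e₁ e₁ ≠ 0) (he₂ : B₂ e₂ e₂ ≠ 0)
    (h21 : B₂ e₂ e₁ = 0) : hs.rR k ≠ hs.rR e₁ * hs.rR e₂ := by
  intro h
  have h12 : B₂ e₁ e₂ = 0 := by rw [hs.symm₂, h21]
  have z1 : ((hs.rR k).1 : Matrix (Fin b) (Fin b) F) *ᵥ e₁ = -e₁ := by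
    rw [h, hs.isoG_apply_mul, hs.rR_fix he₂ h12, hs.rR_self he₁]
  have z2 : ((hs.rR k).1 : Matrix (Fin b) (Fin b) F) *ᵥ e₂ = -e₂ := by
    rw [h, hs.isoG_apply_mul, hs.rR_self he₂, mulVec_neg, hs.rR_fix he₁ h21]
  rw [hs.rR_apply hk] at z1 z2
  have p1 : (2 : F) • e₁ = (2 * B₂ e₁ k / B₂ k k) • k := by linear_combination (norm := module) z1
  have p2 : (2 : F) • e₂ = (2 * B₂ e₂ k / B₂ k k) • k := by linear_combination (norm := module) z2
  have q1 := congrArg (fun u => B₂ u e₁) p1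
  have q2 := congrArg (fun u => B₂ u e₁) p2
  simp only [map_smul, LinearMap.smul_apply, smul_eq_mul, h21, mul_zero] at q1 q2
  have hβ : B₂ k e₁ ≠ 0 := fun h0 => mul_ne_zero hs.two he₁ (by rw [q1, h0, mul_zero])
  have hγ : 2 * B₂ e₂ k / B₂ k k = 0 := (mul_eq_zero.1 q2.symm).resolve_right hβ
  rw [hγ, zero_smul, smul_eq_zero] at p2
  exact he₂ (by simp [p2.resolve_left hs.two])

/-- An involution has an eigenvector orthogonal to eigenvectors. -/
theorem exists_eigen {T : isoG B₂} (hT2 : T * T = 1) {n : ℕ} {q : Fin n → Fin b → F} (hq : IsOrth B₂ q)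
    (hn : n < b) (hfix : ∀ i, ∃ c : F, c * c = 1 ∧ (T.1 : Matrix (Fin b) (Fin b) F) *ᵥ q i = c • q i) :
    ∃ k, B₂ k k ≠ 0 ∧ (∀ i, B₂ k (q i) = 0) ∧
      ∃ c : F, c * c = 1 ∧ (T.1 : Matrix (Fin b) (Fin b) F) *ᵥ k = c • k := by
  obtain ⟨h, hh, hperp⟩ := hs.exists_aniso_perp hq hn
  set Th := (T.1 : Matrix (Fin b) (Fin b) F) *ᵥ h with hTh
  have hTTh : (T.1 : Matrix (Fin b) (Fin b) F) *ᵥ Th = h := by
    rw [hTh, ← hs.isoG_apply_mul, hT2, hs.isoG_one]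
  have hThp : ∀ i, B₂ Th (q i) = 0 := fun i => by
    obtain ⟨c, hc, hq'⟩ := hfix i
    have h1 := T.2 h (q i)
    rw [hq', map_smul, smul_eq_mul, hperp] at h1
    exact (mul_eq_zero.1 h1).resolve_left (left_ne_zero_of_mul_eq_one hc)
  have hThh : B₂ Th Th = B₂ h h := T.2 h h
  by_cases h1 : B₂ (h + Th) (h + Th) = 0
  · refine ⟨h - Th, fun h2 => hh ?_, fun i => by simp [hperp, hThp], -1, by ring,
      by rw [mulVec_sub, hTTh, ← hTh, neg_one_smul, neg_sub]⟩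
    simp only [map_add, map_sub, LinearMap.add_apply, LinearMap.sub_apply, hThh, hs.symm₂ Th h] at h1 h2
    exact (mul_eq_zero.1 (show (2 * 2 : F) * B₂ h h = 0 by linear_combination h1 + h2)).resolve_left
      (mul_ne_zero hs.two hs.two)
  · exact ⟨h + Th, h1, fun i => by simp [hperp, hThp], 1, one_mul 1,
      by rw [mulVec_add, hTTh, ← hTh, one_smul, add_comm]⟩

end ASet

namespace Lvl

variable [Fintype F] {hs : ASet Q B₁ B₂} {M : Subgroup (Isom Q)} {κ : F → Prop} {n : ℕ}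
  {p : Fin n → Fin b → F} (hl : Lvl hs M κ p)
include hl

theorem mem_of_commute {y : Isom Q} (hy : y ∈ M) (hyp : y ∈ fixP Q p) {T : isoG B₂}
    (hc : y * hs.kR T = hs.kR T * y) {ε : F} (hε : ε * ε = 1) {k h : Fin b → F} (hk : κ (B₂ k k))
    (hkp : ∀ i, B₂ k (p i) = 0) (hh : B₂ h h ≠ 0) (hhp : ∀ i, B₂ h (p i) = 0)
    (hTk : (T.1 : Matrix (Fin b) (Fin b) F) *ᵥ k = ε • k)
    (hTh : (T.1 : Matrix (Fin b) (Fin b) F) *ᵥ h = (-ε) • h) : y ∈ Kr Q := by
  by_contra hK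
  exact hl.spread y hy hyp hK k hk hkp
    (hs.pure_of_commute hl.cls hl.nogrow hy hyp hc hε hk hkp hh hhp hTk hTh)

/-- Elements commuting with a reflection. -/
theorem mem_of_commute_R (hn : n + 1 < b) {e : Fin b → F} (he : κ (B₂ e e)) (hep : ∀ i, B₂ e (p i) = 0)
    {y : Isom Q} (hy : y ∈ M) (hyp : y ∈ fixP Q p) (hc : y * hs.R e = hs.R e * y) : y ∈ Kr Q := by
  have he0 := hl.cls.ne _ he
  obtain ⟨h, hh, hh'⟩ := hs.exists_aniso_perp (hs.orth_snoc hl.orth he0 hep) hn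
  obtain ⟨hhp, hhe⟩ := hs.perp_snoc hh'
  exact hl.mem_of_commute hy hyp (T := hs.rR e) hc (ε := -1) (by ring) he hep hh hhp
    (by rw [hs.rR_self he0, neg_one_smul]) (by rw [hs.rR_fix he0 hhe, neg_neg, one_smul])

/-- Conjugates of a reflection under `Kr`. -/
theorem conj_data {h : Isom Q} (hhp : h ∈ fixP Q p) (hK : h ∈ Kr Q) {e : Fin b → F} (he : B₂ e e ≠ 0)
    (hep : ∀ i, B₂ e (p i) = 0) :
    ∃ k, B₂ k k = B₂ e e ∧ (∀ i, B₂ k (p i) = 0) ∧ h * hs.R e * h⁻¹ = hs.R k := by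
  obtain ⟨S, hS, T, hST⟩ := hs.kr_cases hl.odd hK
  refine ⟨(T.1 : Matrix (Fin b) (Fin b) F) *ᵥ e, T.2 e e, fun i => ?_, ?_⟩
  · obtain ⟨x, z, hxz⟩ := hs.exists_pair₁
    have h1 := polar_mulVec Q h (ten (((S⁻¹ : GL (Fin a) F) : Matrix (Fin a) (Fin a) F) *ᵥ x) e) (ten z (p i))
    rw [hST, hhp i z, mulVec_mulVec, Units.mul_inv, one_mulVec, hs.tset.polar, hs.tset.polar, hxz, one_mul, hep,
      mul_zero] at h1
    exact h1
  · rw [mul_inv_eq_iff_eq_mul]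
    refine hs.ext_ten fun x y => ?_
    rw [mat_mul, mat_mul, ← mulVec_mulVec, ← mulVec_mulVec, ASet.R, hs.kR_ten, hST, hST, ASet.R, hs.kR_ten,
      ← hs.rR_conj T he, ← hs.isoG_apply_mul, ← hs.isoG_apply_mul, inv_mul_cancel_right]

/-- The key step for the dihedral argument. -/
theorem key_data {e : Fin b → F} (he : κ (B₂ e e)) (hep : ∀ i, B₂ e (p i) = 0) {E : isoG B₂} (hE : E * E = 1)
    {c : Isom Q} (hcK : c ∈ Kr Q) (hcs : c * hs.kR E = hs.kR E * c) {h : Isom Q} (hh : h ∈ M)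
    (hhp : h ∈ fixP Q p) (hch : c * hs.kR E = h * hs.R e * h⁻¹) :
    ∃ k, κ (B₂ k k) ∧ (∀ i, B₂ k (p i) = 0) ∧ c = hs.kR (hs.rR k * E) ∧
      ((E.1 : Matrix (Fin b) (Fin b) F) *ᵥ k = k ∨ (E.1 : Matrix (Fin b) (Fin b) F) *ᵥ k = -k) := by
  have hhK : h ∈ Kr Q := hl.mem_of_conj he hep hh hhp (hch ▸ (Kr Q).mul_mem hcK (hs.kR_mem E))
  obtain ⟨k, hkv, hkp, hk⟩ := hl.conj_data hhp hhK (hl.cls.ne _ he) hep
  have hc : c = hs.kR (hs.rR k * E) := by
    rw [map_mul, show hs.kR (hs.rR k) = hs.R k from rfl, ← hk, ← hch, mul_assoc, ← map_mul, hE, map_one, mul_one]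
  have hkκ : κ (B₂ k k) := by rw [hkv]; exact he
  exact ⟨k, hkκ, hkp, hc, hs.eig_of_comm hE (hl.cls.ne _ hkκ) (by rw [← hc]; exact hcs)⟩

/-- The key step with a reflection. -/
theorem key_refl (hn : n + 2 < b) {e e' : Fin b → F} (he : κ (B₂ e e)) (hep : ∀ i, B₂ e (p i) = 0)
    (he' : B₂ e' e' ≠ 0) (he'p : ∀ i, B₂ e' (p i) = 0) {c : Isom Q} (hcK : c ∈ Kr Q) (hc1 : c ≠ 1)
    (hcs : c * hs.R e' = hs.R e' * c) {h : Isom Q} (hh : h ∈ M) (hhp : h ∈ fixP Q p)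
    (hch : c * hs.R e' = h * hs.R e * h⁻¹) {x : Isom Q} (hx : x ∈ M) (hxp : x ∈ fixP Q p)
    (hxc : x * c = c * x) : x ∈ Kr Q := by
  obtain ⟨k, hkκ, hkp, hc, hk⟩ := hl.key_data he hep (E := hs.rR e') (hs.rR_sq e') hcK hcs hh hhp hch
  have hk0 := hl.cls.ne _ hkκ
  have hperp : B₂ k e' = 0 := by
    rcases hk with hk | hk <;> rw [hs.rR_apply he'] at hk
    · rw [sub_eq_self, smul_eq_zero, div_eq_zero_iff, or_iff_left he',
        mul_eq_zero, or_iff_right hs.two] at hk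
      exact hk.resolve_right fun h0 => he' (by simp [h0])
    · exfalso
      have h2 : k = (B₂ k e' / B₂ e' e') • e' := smul_right_injective _ hs.two (show (2 : F) • k = (2 : F) • _ by
        rw [smul_smul, ← mul_div_assoc]; linear_combination (norm := module) hk)
      have hne : B₂ k e' / B₂ e' e' ≠ 0 := fun h0 => hk0 (by rw [h2, h0, zero_smul]; simp)
      refine hc1 ?_
      rw [hc, map_mul, show hs.kR (hs.rR k) = hs.R k from rfl, show hs.kR (hs.rR e') = hs.R e' from rfl]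
      rw [h2, hs.R_smul he' hne, hs.R_sq]
  obtain ⟨w, hw, hw'⟩ := hs.exists_aniso_perp
    (hs.orth_snoc (hs.orth_snoc hl.orth he' he'p) hk0 (fun i => by
      induction i using Fin.lastCases with
      | last => rw [Fin.snoc_last]; exact hperp
      | cast i => rw [Fin.snoc_castSucc]; exact hkp i)) (by omega)
  obtain ⟨hw', hwk⟩ := hs.perp_snoc hw'
  obtain ⟨hwp, hwe⟩ := hs.perp_snoc hw'
  refine hl.mem_of_commute hx hxp (T := hs.rR k * hs.rR e') (by rw [← hc]; exact hxc) (ε := -1) (by ring) hkκ hkp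
    hw hwp ?_ ?_
  · rw [hs.isoG_apply_mul, hs.rR_fix he' hperp, hs.rR_self hk0, neg_one_smul]
  · rw [hs.isoG_apply_mul, hs.rR_fix he' hwe, hs.rR_fix hk0 hwk, neg_neg, one_smul]

/-- All classes: a step. -/
theorem false_full (hfull : ∀ v, v ≠ 0 → κ v) (hn : n + 3 ≤ b) {g : Isom Q} (hg : g ∈ M) (hgp : g ∈ fixP Q p)
    (hgK : g ∉ Kr Q) : False := by
  obtain ⟨e, he, hep⟩ := hs.exists_aniso_perp hl.orth (by omega)
  obtain ⟨ν, hν⟩ := FiniteField.exists_nonsquare (F := F) fun h => hs.two (by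
    have : CharP F 2 := ringChar.of_eq h
    exact CharTwo.two_eq_zero)
  have hν0 : ν ≠ 0 := fun h => hν (h ▸ IsSquare.zero)
  obtain ⟨e', he'p, hev⟩ := hs.exists_value hl.orth (by omega) (ν * B₂ e e)
  have he' : B₂ e' e' ≠ 0 := by rw [hev]; exact mul_ne_zero hν0 he
  have hκe := hfull _ he
  have hκe' := hfull _ he'
  refine TensorSympOrth.dihedral_contra (L := Kr Q) (Y := M ⊓ fixP Q p) (r := hs.R e) (s := hs.R e') (g := g)
    (hs.R_sq e) (hs.R_sq e') ⟨hl.cls.mem e hκe, hs.R_fixP he hep⟩ ⟨hl.cls.mem e' hκe', hs.R_fixP he' he'p⟩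
    ⟨hg, hgp⟩ ?_ (fun h => hgK (hl.mem_of_conj hκe' he'p hg hgp h))
    (fun x hx h => hl.mem_of_commute_R (by omega) hκe hep hx.1 hx.2 h)
    (fun x hx h => hl.mem_of_commute_R (by omega) hκe' he'p hx.1 hx.2 h)
    (fun h => hgK (by
      have := hl.mem_of_conj hκe hep (M.inv_mem hg) ((fixP Q p).inv_mem hgp) (by rwa [inv_inv])
      simpa using (Kr Q).inv_mem this))
    (fun c _ hcK h1 _ hcr ⟨h, hh, hch⟩ x hx hxc =>
      hl.key_refl (by omega) hκe hep he hep hcK h1 hcr hh.1 hh.2 hch hx.1 hx.2 hxc)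
    (fun c _ hcK h1 _ hcs ⟨h, hh, hch⟩ x hx hxc =>
      hl.key_refl (by omega) hκe hep he' he'p hcK h1 hcs hh.1 hh.2 hch hx.1 hx.2 hxc)
  intro h hh hconj
  have hhK := hl.mem_of_conj hκe hep hh.1 hh.2 (hconj ▸ hs.R_mem e')
  obtain ⟨k, hkv, -, hk⟩ := hl.conj_data hh.2 hhK he hep
  rw [hk] at hconj
  have hk0 : B₂ k k ≠ 0 := by rw [hkv]; exact he
  have h2 := congrArg (fun u => B₂ u u) (hs.rR_eq hk0 he' (hs.kR_inj hconj))
  simp only [map_smul, LinearMap.smul_apply, smul_eq_mul, hkv, hev] at h2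
  refine hν ⟨(B₂ k e' / (ν * B₂ e e))⁻¹, ?_⟩
  set c := B₂ k e' / (ν * B₂ e e)
  have hc : c * c * ν = 1 := mul_right_cancel₀ he (by linear_combination -h2)
  have hc0 : c ≠ 0 := fun h => by rw [h] at hc; simp at hc
  field_simp
  linear_combination hc

/-- One class: a step. -/
theorem false_one {v₀ : F} (hv₀ : κ v₀) (hn : n + 4 ≤ b) {g : Isom Q} (hg : g ∈ M) (hgp : g ∈ fixP Q p)
    (hgK : g ∉ Kr Q) : False := by
  obtain ⟨e₁, he₁p, hev₁⟩ := hs.exists_value hl.orth (by omega) v₀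
  have hκ₁ : κ (B₂ e₁ e₁) := by rw [hev₁]; exact hv₀
  have he₁ := hl.cls.ne _ hκ₁
  have o₁ := hs.orth_snoc hl.orth he₁ he₁p
  obtain ⟨e₂, he₂', hev₂⟩ := hs.exists_value o₁ (by omega) v₀
  obtain ⟨he₂p, h21⟩ := hs.perp_snoc he₂'
  have hκ₂ : κ (B₂ e₂ e₂) := by rw [hev₂]; exact hv₀
  have he₂ := hl.cls.ne _ hκ₂
  have h12 : B₂ e₁ e₂ = 0 := by rw [hs.symm₂, h21]
  have o₂ := hs.orth_snoc o₁ he₂ he₂'
  set z := hs.rR e₁ * hs.rR e₂ with hzdef
  have hz1 : (z.1 : Matrix (Fin b) (Fin b) F) *ᵥ e₁ = -e₁ := by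
    rw [hzdef, hs.isoG_apply_mul, hs.rR_fix he₂ h12, hs.rR_self he₁]
  have hz2 : (z.1 : Matrix (Fin b) (Fin b) F) *ᵥ e₂ = -e₂ := by
    rw [hzdef, hs.isoG_apply_mul, hs.rR_self he₂, mulVec_neg, hs.rR_fix he₁ h21]
  have hzfix : ∀ w, B₂ w e₁ = 0 → B₂ w e₂ = 0 → (z.1 : Matrix (Fin b) (Fin b) F) *ᵥ w = w := fun w h1 h2 => by
    rw [hzdef, hs.isoG_apply_mul, hs.rR_fix he₂ h2, hs.rR_fix he₁ h1]
  have hzv : ∀ w, (z.1 : Matrix (Fin b) (Fin b) F) *ᵥ w
      = w - (2 * B₂ w e₁ / B₂ e₁ e₁) • e₁ - (2 * B₂ w e₂ / B₂ e₂ e₂) • e₂ := fun w => by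
    rw [hzdef, hs.isoG_apply_mul, hs.rR_apply he₂, hs.rR_apply he₁, map_sub, map_smul, LinearMap.sub_apply,
      LinearMap.smul_apply, h21, smul_zero, sub_zero]
    abel
  have hz : z * z = 1 := by
    refine hs.isoG_ext fun w => ?_
    rw [hs.isoG_apply_mul, hs.isoG_one, hzv w, mulVec_sub, mulVec_sub, mulVec_smul, mulVec_smul, hz1, hz2, hzv w]
    module
  obtain ⟨w₀, hw₀, hw₀'⟩ := hs.exists_aniso_perp o₂ (by omega)
  obtain ⟨hw₀', hw₀2⟩ := hs.perp_snoc hw₀'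
  obtain ⟨hw₀p, hw₀1⟩ := hs.perp_snoc hw₀'
  have hCz : ∀ x ∈ M, x ∈ fixP Q p → x * hs.kR z = hs.kR z * x → x ∈ Kr Q := fun x hx hxp h =>
    hl.mem_of_commute hx hxp h (ε := -1) (by ring) hκ₁ he₁p hw₀ hw₀p (by rw [hz1, neg_one_smul])
      (by rw [hzfix _ hw₀1 hw₀2, neg_neg, one_smul])
  have hzY : hs.kR z ∈ M ⊓ fixP Q p := by
    rw [hzdef, map_mul]
    exact ⟨M.mul_mem (hl.cls.mem e₁ hκ₁) (hl.cls.mem e₂ hκ₂),
      (fixP Q p).mul_mem (hs.R_fixP he₁ he₁p) (hs.R_fixP he₂ he₂p)⟩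
  refine TensorSympOrth.dihedral_contra (L := Kr Q) (Y := M ⊓ fixP Q p) (r := hs.R e₁) (s := hs.kR z) (g := g)
    (hs.R_sq e₁) (by rw [← map_mul, hz, map_one]) ⟨hl.cls.mem e₁ hκ₁, hs.R_fixP he₁ he₁p⟩ hzY ⟨hg, hgp⟩ ?_ ?_
    (fun x hx h => hl.mem_of_commute_R (by omega) hκ₁ he₁p hx.1 hx.2 h)
    (fun x hx h => hCz x hx.1 hx.2 h)
    (fun h => hgK (by
      have := hl.mem_of_conj hκ₁ he₁p (M.inv_mem hg) ((fixP Q p).inv_mem hgp) (by rwa [inv_inv])
      simpa using (Kr Q).inv_mem this))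
    (fun c _ hcK h1 _ hcr ⟨h, hh, hch⟩ x hx hxc =>
      hl.key_refl (by omega) hκ₁ he₁p he₁ he₁p hcK h1 hcr hh.1 hh.2 hch hx.1 hx.2 hxc) ?_
  · intro h hh hconj
    have hhK := hl.mem_of_conj hκ₁ he₁p hh.1 hh.2 (hconj ▸ hs.kR_mem z)
    obtain ⟨k, hkv, -, hk⟩ := hl.conj_data hh.2 hhK he₁ he₁p
    rw [hk] at hconj
    exact hs.rR_ne_plane (by rw [hkv]; exact he₁) he₁ he₂ h21 (hs.kR_inj hconj)
  · intro hm
    -- a reflection of the class commuting with the conjugate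
    set m := g * hs.kR z * g⁻¹ with hmdef
    clear_value m
    have hm2 : m * m = 1 := by
      rw [hmdef, show g * hs.kR z * g⁻¹ * (g * hs.kR z * g⁻¹) = g * (hs.kR z * hs.kR z) * g⁻¹ by group,
        ← map_mul, hz, map_one, mul_one, mul_inv_cancel]
    have hmp : m ∈ fixP Q p := hmdef.symm ▸ (fixP Q p).mul_mem ((fixP Q p).mul_mem hgp hzY.2) ((fixP Q p).inv_mem hgp)
    obtain ⟨S, T, hST, hT2, hTp⟩ : ∃ (S : GL (Fin a) F) (T : isoG B₂),
        (∀ x y, mat Q m *ᵥ ten x y = ten ((S : Matrix (Fin a) (Fin a) F) *ᵥ x) ((T.1 : Matrix (Fin b) (Fin b) F) *ᵥ y))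
        ∧ T * T = 1 ∧ ∀ i, (T.1 : Matrix (Fin b) (Fin b) F) *ᵥ p i = p i := by
      rcases Nat.eq_zero_or_pos n with rfl | hn0
      · obtain ⟨S, -, T, hST⟩ := hs.kr_cases hl.odd hm
        refine ⟨S, T, hST, hs.isoG_ext fun y => ?_, fun i => i.elim0⟩
        obtain ⟨x, hx⟩ := hs.exists_ne₁
        obtain ⟨i, hi⟩ := Function.ne_iff.1 hx
        set S2 := (S : Matrix (Fin a) (Fin a) F) *ᵥ ((S : Matrix (Fin a) (Fin a) F) *ᵥ x)
        set T2 := fun y => (T.1 : Matrix (Fin b) (Fin b) F) *ᵥ ((T.1 : Matrix (Fin b) (Fin b) F) *ᵥ y) with hT2def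
        have key : ∀ y, ten S2 (T2 y) = ten x y := fun y => by
          have h := congrArg (fun g : Isom Q => mat Q g *ᵥ ten x y) hm2
          simp only [mat_mul, ← mulVec_mulVec, hST, mat_one, one_mulVec] at h
          exact h
        have hS2 : S2 i ≠ 0 := fun h0 => by
          have h := congrFun (key (Pi.single ⟨0, hs.bpos⟩ 1)) (i, ⟨0, hs.bpos⟩)
          simp [ten, h0] at h
          exact hi h.symm
        obtain ⟨c, hc⟩ : ∃ c : F, ∀ y, T2 y = c • y := ⟨x i / S2 i, fun y => funext fun j => by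
          have h := congrFun (key y) (i, j)
          simp only [ten] at h
          rw [Pi.smul_apply, smul_eq_mul, div_mul_eq_mul_div, eq_div_iff hS2, mul_comm, h]⟩
        have hdet : (T.1 : Matrix (Fin b) (Fin b) F).det * (T.1 : Matrix (Fin b) (Fin b) F).det = c ^ b := by
          have hTT : (T.1 : Matrix (Fin b) (Fin b) F) * (T.1 : Matrix (Fin b) (Fin b) F) = c • 1 :=
            Matrix.ext_iff_mulVec.2 fun y => by rw [← mulVec_mulVec, smul_mulVec, one_mulVec]; exact hc y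
          rw [← det_mul, hTT, det_smul, det_one, Fintype.card_fin, mul_one]
        rw [hs.det_sq] at hdet
        obtain ⟨y₀, hy₀⟩ := hs.tset.f₂.exists_one (show e₁ ≠ 0 from fun h => he₁ (by simp [h]))
        have hcc : c * c = 1 := by
          have h := (T.2 ((T.1 : Matrix (Fin b) (Fin b) F) *ᵥ y₀) ((T.1 : Matrix (Fin b) (Fin b) F) *ᵥ e₁)).trans
            (T.2 y₀ e₁)
          rw [show (T.1 : Matrix (Fin b) (Fin b) F) *ᵥ _ = c • y₀ from hc y₀,
            show (T.1 : Matrix (Fin b) (Fin b) F) *ᵥ _ = c • e₁ from hc e₁] at h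
          simpa [hy₀] using h
        obtain ⟨j, hj⟩ := hl.odd
        rw [hj, pow_succ, pow_mul, sq, hcc, one_pow, one_mul] at hdet
        rw [hs.isoG_apply_mul, hs.isoG_one]
        show T2 y = y
        rw [hc, ← hdet, one_smul]
      · obtain ⟨T, hT, -⟩ := hs.kr_fix hm (h := p ⟨0, hn0⟩)
          (fun h => hl.orth.1 ⟨0, hn0⟩ (by simp [h])) (hmp ⟨0, hn0⟩)
        refine ⟨1, T, fun x y => by rw [hT, hs.kR_ten, Units.val_one, one_mulVec], hs.kR_inj ?_, fun i => ?_⟩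
        · rw [map_mul, map_one, ← hT, hm2]
        · obtain ⟨x, hx⟩ := hs.exists_ne₁
          exact ten_inj_right hx (by rw [← hs.kR_ten, ← hT, hmp i x])
    -- three eigenvectors
    have h1' : ∀ i, ∃ c : F, c * c = 1 ∧ (T.1 : Matrix (Fin b) (Fin b) F) *ᵥ p i = c • p i :=
      fun i => ⟨1, one_mul 1, by rw [hTp, one_smul]⟩
    have hsn : ∀ {m : ℕ} {q : Fin m → Fin b → F} {k : Fin b → F},
        (∀ i, ∃ c : F, c * c = 1 ∧ (T.1 : Matrix (Fin b) (Fin b) F) *ᵥ q i = c • q i) →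
        (∃ c : F, c * c = 1 ∧ (T.1 : Matrix (Fin b) (Fin b) F) *ᵥ k = c • k) →
        ∀ i, ∃ c : F, c * c = 1 ∧ (T.1 : Matrix (Fin b) (Fin b) F) *ᵥ (Fin.snoc q k : Fin (m + 1) → Fin b → F) i
          = c • (Fin.snoc q k : Fin (m + 1) → Fin b → F) i := by
      intro m q k hq hk i
      induction i using Fin.lastCases with
      | last => rw [Fin.snoc_last]; exact hk
      | cast i => rw [Fin.snoc_castSucc]; exact hq i
    obtain ⟨u₁, hu₁, hu₁p, hs₁⟩ := hs.exists_eigen hT2 hl.orth (by omega) h1'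
    have q₁ := hs.orth_snoc hl.orth hu₁ hu₁p
    obtain ⟨u₂, hu₂, hu₂', hs₂⟩ := hs.exists_eigen hT2 q₁ (by omega) (hsn h1' hs₁)
    have q₂ := hs.orth_snoc q₁ hu₂ hu₂'
    obtain ⟨u₃, hu₃, hu₃', hs₃⟩ := hs.exists_eigen hT2 q₂ (by omega) (hsn (hsn h1' hs₁) hs₂)
    obtain ⟨hu₂p, h21'⟩ := hs.perp_snoc hu₂'
    obtain ⟨hu₃'', h32'⟩ := hs.perp_snoc hu₃'
    obtain ⟨hu₃p, h31'⟩ := hs.perp_snoc hu₃''
    obtain ⟨c₁, hc₁, hT₁⟩ := hs₁
    obtain ⟨c₂, hc₂, hT₂⟩ := hs₂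
    obtain ⟨c₃, hc₃, hT₃⟩ := hs₃
    have pick : ∀ u v : Fin b → F, B₂ u u ≠ 0 → B₂ v v ≠ 0 → B₂ v u = 0 → (∀ i, B₂ u (p i) = 0) →
        (∀ i, B₂ v (p i) = 0) → ∀ c : F, c * c = 1 → (T.1 : Matrix (Fin b) (Fin b) F) *ᵥ u = c • u →
        (T.1 : Matrix (Fin b) (Fin b) F) *ᵥ v = c • v → False := by
      intro u v hu hv hvu hup hvp c hc hTu hTv
      obtain ⟨s, t, hst⟩ := MaxSub.exists_sq_add_sq hs.odd_card hu hv v₀
      set w := s • u + t • v with hw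
      have hwκ : κ (B₂ w w) := by
        have : B₂ w w = v₀ := by
          simp only [hw, map_add, map_smul, LinearMap.add_apply, LinearMap.smul_apply, smul_eq_mul, hvu,
            hs.symm₂ u v]
          linear_combination hst
        rw [this]; exact hv₀
      have hw0 := hl.cls.ne _ hwκ
      have hwp : ∀ i, B₂ w (p i) = 0 := fun i => by simp [hw, hup, hvp]
      have hTw : (T.1 : Matrix (Fin b) (Fin b) F) *ᵥ w = c • w := by
        rw [hw, mulVec_add, mulVec_smul, mulVec_smul, hTu, hTv]; module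
      have hcomm : m * hs.R w = hs.R w * m := by
        refine hs.ext_ten fun x y => ?_
        rw [mat_mul, mat_mul, ← mulVec_mulVec, ← mulVec_mulVec, ASet.R, hs.kR_ten, hST, hST, hs.kR_ten]
        congr 1
        have hconj := hs.rR_conj T hw0
        rw [hTw, show hs.rR (c • w) = hs.rR w from hs.kR_inj (hs.R_smul hw0 (left_ne_zero_of_mul_eq_one hc)),
          mul_inv_eq_iff_eq_mul] at hconj
        rw [← hs.isoG_apply_mul, ← hs.isoG_apply_mul, hconj]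
      have hxK := hCz (g⁻¹ * hs.R w * g) (M.mul_mem (M.mul_mem (M.inv_mem hg) (hl.cls.mem w hwκ)) hg)
        ((fixP Q p).mul_mem ((fixP Q p).mul_mem ((fixP Q p).inv_mem hgp) (hs.R_fixP hw0 hwp)) hgp) (by
          have h2 : hs.kR z = g⁻¹ * m * g := by rw [hmdef]; group
          rw [h2, show g⁻¹ * hs.R w * g * (g⁻¹ * m * g) = g⁻¹ * (hs.R w * m) * g by group, ← hcomm]
          group)
      refine hgK ?_
      have := hl.mem_of_conj hwκ hwp (M.inv_mem hg) ((fixP Q p).inv_mem hgp) (by rwa [inv_inv])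
      simpa using (Kr Q).inv_mem this
    rcases mul_self_eq_one_iff.1 hc₁ with r₁ | r₁ <;> rcases mul_self_eq_one_iff.1 hc₂ with r₂ | r₂ <;>
      rcases mul_self_eq_one_iff.1 hc₃ with r₃ | r₃ <;> first
      | exact pick u₁ u₂ hu₁ hu₂ h21' hu₁p hu₂p c₁ hc₁ hT₁ (by rw [r₁, ← r₂]; exact hT₂)
      | exact pick u₁ u₃ hu₁ hu₃ h31' hu₁p hu₃p c₁ hc₁ hT₁ (by rw [r₁, ← r₃]; exact hT₃)
      | exact pick u₂ u₃ hu₂ hu₃ h32' hu₂p hu₃p c₂ hc₂ hT₂ (by rw [r₂, ← r₃]; exact hT₃)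
  · intro c _ hcK h1 _ hcs ⟨h, hh, hch⟩ x hx hxc
    obtain ⟨k, hkκ, hkp, hc, hk⟩ := hl.key_data hκ₁ he₁p hz hcK hcs hh.1 hh.2 hch
    have hk0 := hl.cls.ne _ hkκ
    rcases hk with hk | hk
    · -- orthogonal to the plane
      have hperp : ∀ u, (z.1 : Matrix (Fin b) (Fin b) F) *ᵥ u = -u → B₂ k u = 0 := fun u hu => by
        have h2 := z.2 k u
        rw [hk, hu, map_neg] at h2
        exact (mul_eq_zero.1 (show (2 : F) * B₂ k u = 0 by linear_combination -h2)).resolve_left hs.two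
      have o₃ := hs.orth_snoc o₂ hk0 fun i => by
        induction i using Fin.lastCases with
        | last => rw [Fin.snoc_last]; exact hperp _ hz2
        | cast i =>
          rw [Fin.snoc_castSucc]
          induction i using Fin.lastCases with
          | last => rw [Fin.snoc_last]; exact hperp _ hz1
          | cast i => rw [Fin.snoc_castSucc]; exact hkp i
      obtain ⟨w, hw, hw'⟩ := hs.exists_aniso_perp o₃ (by omega)
      obtain ⟨hw'', hwk⟩ := hs.perp_snoc hw'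
      obtain ⟨hw''', hw2⟩ := hs.perp_snoc hw''
      obtain ⟨hwp, hw1⟩ := hs.perp_snoc hw'''
      refine hl.mem_of_commute hx.1 hx.2 (T := hs.rR k * z) (by rw [← hc]; exact hxc) (ε := -1) (by ring) hkκ hkp
        hw hwp ?_ ?_
      · rw [hs.isoG_apply_mul, hk, hs.rR_self hk0, neg_one_smul]
      · rw [hs.isoG_apply_mul, hzfix _ hw1 hw2, hs.rR_fix hk0 hwk, neg_neg, one_smul]
    · -- in the plane
      have hexp : k = (B₂ k e₁ / B₂ e₁ e₁) • e₁ + (B₂ k e₂ / B₂ e₂ e₂) • e₂ := by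
        rw [hzv] at hk
        refine smul_right_injective _ hs.two (show (2 : F) • k = (2 : F) • _ from ?_)
        rw [smul_add, smul_smul, smul_smul, ← mul_div_assoc, ← mul_div_assoc]
        linear_combination (norm := module) hk
      set w := B₂ k e₂ • e₁ - B₂ k e₁ • e₂ with hw
      have hwk : B₂ w k = 0 := by
        simp [hw, hs.symm₂ e₁ k, hs.symm₂ e₂ k, mul_comm]
      have hkk : B₂ k k = (B₂ k e₁ * B₂ k e₁) / B₂ e₁ e₁ + (B₂ k e₂ * B₂ k e₂) / B₂ e₂ e₂ := by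
        conv_lhs => arg 2; rw [hexp]
        simp only [map_add, map_smul, smul_eq_mul]
        ring
      have hwv : B₂ w w = v₀ * v₀ * B₂ k k := by
        simp only [hw, map_sub, map_smul, LinearMap.sub_apply, LinearMap.smul_apply, smul_eq_mul, h21, h12,
          hkk, hev₁, hev₂]
        have := hl.cls.ne _ hv₀
        field_simp
        ring
      refine hl.mem_of_commute hx.1 hx.2 (T := hs.rR k * z) (by rw [← hc]; exact hxc) (ε := 1) (one_mul 1) hkκ hkp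
        (h := w) (by rw [hwv]; exact mul_ne_zero (mul_ne_zero (hl.cls.ne _ hv₀) (hl.cls.ne _ hv₀)) hk0)
        (fun i => by simp [hw, he₁p, he₂p]) ?_ ?_
      · rw [hs.isoG_apply_mul, hk, mulVec_neg, hs.rR_self hk0, neg_neg, one_smul]
      · rw [hs.isoG_apply_mul, hw, mulVec_sub, mulVec_smul, mulVec_smul, hz1, hz2,
          show B₂ k e₂ • -e₁ - B₂ k e₁ • -e₂ = -w by rw [hw]; module, mulVec_neg, hs.rR_fix hk0 hwk,
          neg_one_smul, hw]

end Lvl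

end CfsgLib.TensorSlice
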