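import Cfsg.Agent.TensorOrthSlice.Membership
import Cfsg.Prelude.Def_GeometricClasses

/-!
# Exchanging the two factors
-/

set_option autoImplicit false
set_option linter.unusedSectionVars false

namespace CfsgLib.TensorSlice

open Matrix Module CfsgLib.Spinor CfsgLib.OrthMax CfsgLib.TensorOrth Cfsg.Geo
open CfsgLib.TensorMax (Idx ten kron_mulVec_ten)
open scoped Kronecker

variable {F : Type*} [Field F] {a b : ℕ}

/-- The exchange of coordinates. -/
def swL : (Idx b a → F) ≃ₗ[F] (Idx a b → F) := LinearEquiv.funCongrLeft F F (Equiv.prodComm (Fin a) (Fin b))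

theorem swL_ten (x : Fin a → F) (y : Fin b → F) : swL (ten y x) = ten x y :=
  funext fun ⟨_, _⟩ => mul_comm _ _

theorem swL_apply (v : Idx b a → F) : swL v = v ∘ Equiv.prodComm (Fin a) (Fin b) := rfl

/-- The exchanged form. -/
def swQ (Q : QuadraticForm F (Idx a b → F)) : QuadraticForm F (Idx b a → F) :=
  Q.comp (swL (F := F) (a := a) (b := b)).toLinearMap

theorem swQ_apply (Q : QuadraticForm F (Idx a b → F)) (v : Idx b a → F) : swQ Q v = Q (swL v) := rfl

theorem swQ_polar (Q : QuadraticForm F (Idx a b → F)) (v w : Idx b a → F) :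
    QuadraticMap.polar (⇑(swQ Q)) v w = QuadraticMap.polar (⇑Q) (swL v) (swL w) := by
  simp only [QuadraticMap.polar, swQ_apply, map_add]

theorem swQ_tset {Q : QuadraticForm F (Idx a b → F)} {B₁ : LinearMap.BilinForm F (Fin a → F)}
    {B₂ : LinearMap.BilinForm F (Fin b → F)} {ε : F} (h : TSet Q B₁ B₂ ε) : TSet (swQ Q) B₂ B₁ ε where
  nondeg := by
    constructor
    · intro v hv
      refine (swL (F := F) (a := a) (b := b)).injective ?_
      rw [map_zero]
      refine h.nondeg.1 _ fun w => ?_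
      have := hv (swL.symm w)
      rwa [QuadraticMap.polarBilin_apply_apply, swQ_polar, LinearEquiv.apply_symm_apply] at this
    · intro v hv
      refine (swL (F := F) (a := a) (b := b)).injective ?_
      rw [map_zero]
      refine h.nondeg.2 _ fun w => ?_
      have := hv (swL.symm w)
      rwa [QuadraticMap.polarBilin_apply_apply, swQ_polar, LinearEquiv.apply_symm_apply] at this
  f₁ := h.f₂
  f₂ := h.f₁
  polar x x' y y' := by rw [swQ_polar, swL_ten, swL_ten, h.polar, mul_comm]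
  quad x y hxy := by rw [swQ_apply, swL_ten]; exact h.quad y x hxy.symm

theorem ASet.swap {Q : QuadraticForm F (Idx a b → F)} {B₁ : LinearMap.BilinForm F (Fin a → F)}
    {B₂ : LinearMap.BilinForm F (Fin b → F)} (h : ASet Q B₁ B₂) : ASet (swQ Q) B₂ B₁ :=
  ⟨swQ_tset h.tset, h.two, h.bpos, h.apos⟩

theorem reindex_swap_mulVec (g : GL (Idx a b) F) (v : Idx b a → F) :
    ((glReindex (Equiv.prodComm (Fin a) (Fin b)) g : GL (Idx b a) F) : Matrix (Idx b a) (Idx b a) F) *ᵥ v
      = swL.symm ((g : Matrix (Idx a b) (Idx a b) F) *ᵥ swL v) := by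
  show (g : Matrix (Idx a b) (Idx a b) F).submatrix (Equiv.prodComm (Fin a) (Fin b)).symm
    (Equiv.prodComm (Fin a) (Fin b)).symm *ᵥ v = _
  rw [Matrix.submatrix_mulVec_equiv]
  rfl

theorem reindex_swap_symm_mulVec (g : GL (Idx b a) F) (v : Idx a b → F) :
    (((glReindex (Equiv.prodComm (Fin a) (Fin b))).symm g : GL (Idx a b) F) : Matrix (Idx a b) (Idx a b) F) *ᵥ v
      = swL ((g : Matrix (Idx b a) (Idx b a) F) *ᵥ swL.symm v) := by
  obtain ⟨g, rfl⟩ := (glReindex (Equiv.prodComm (Fin a) (Fin b))).surjective g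
  rw [MulEquiv.symm_apply_apply, reindex_swap_mulVec, LinearEquiv.apply_symm_apply,
    LinearEquiv.apply_symm_apply]

/-- The exchange on isometry groups. -/
noncomputable def swIso (Q : QuadraticForm F (Idx a b → F)) : Isom Q ≃* Isom (swQ Q) where
  toFun g := ⟨glReindex (Equiv.prodComm (Fin a) (Fin b)) g.1, fun v _ => by
    show swQ Q (((glReindex (Equiv.prodComm (Fin a) (Fin b)) g.1 : GL (Idx b a) F) : Matrix (Idx b a) (Idx b a) F) *ᵥ v) = swQ Q v
    rw [reindex_swap_mulVec, swQ_apply, swQ_apply, LinearEquiv.apply_symm_apply]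
    exact quad_mulVec Q g _⟩
  invFun g := ⟨(glReindex (Equiv.prodComm (Fin a) (Fin b))).symm g.1, fun v _ => by
    show Q ((((glReindex (Equiv.prodComm (Fin a) (Fin b))).symm g.1 : GL (Idx a b) F) : Matrix (Idx a b) (Idx a b) F) *ᵥ v) = Q v
    rw [reindex_swap_symm_mulVec, ← swQ_apply]
    exact (quad_mulVec (swQ Q) g _).trans (by rw [swQ_apply, LinearEquiv.apply_symm_apply])⟩
  left_inv g := Subtype.ext (MulEquiv.symm_apply_apply _ _)
  right_inv g := Subtype.ext (MulEquiv.apply_symm_apply _ _)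
  map_mul' g h := Subtype.ext (map_mul _ _ _)

theorem swIso_mulVec {Q : QuadraticForm F (Idx a b → F)} (g : Isom Q) (v : Idx b a → F) :
    mat (swQ Q) (swIso Q g) *ᵥ v = swL.symm (mat Q g *ᵥ swL v) := reindex_swap_mulVec _ _

theorem swIso_ten {Q : QuadraticForm F (Idx a b → F)} (g : Isom Q) {x x' : Fin a → F} {y y' : Fin b → F}
    (h : mat Q g *ᵥ ten x y = ten x' y') : mat (swQ Q) (swIso Q g) *ᵥ ten y x = ten y' x' := by
  rw [swIso_mulVec, swL_ten, h, ← swL_ten, LinearEquiv.symm_apply_apply]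

theorem swIso_mem_Kr {Q : QuadraticForm F (Idx a b → F)} (ha : 0 < a) (hb : 0 < b)
    {B₁ : LinearMap.BilinForm F (Fin a → F)} {B₂ : LinearMap.BilinForm F (Fin b → F)} {ε : F}
    (h : TSet Q B₁ B₂ ε) (g : Isom Q) : swIso Q g ∈ Kr (swQ Q) ↔ g ∈ Kr Q := by
  constructor
  · rintro ⟨T, S, hTS⟩
    refine h.mem_Kr_of_ten ha hb (Matrix.mulVecLin (S : Matrix (Fin a) (Fin a) F))
      (Matrix.mulVecLin (T : Matrix (Fin b) (Fin b) F)) fun x y => ?_
    have h1 := swIso_mulVec g (ten y x)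
    rw [show mat (swQ Q) (swIso Q g) = (T : Matrix (Fin b) (Fin b) F) ⊗ₖ (S : Matrix (Fin a) (Fin a) F) from hTS,
      kron_mulVec_ten, swL_ten, ← swL.injective.eq_iff, LinearEquiv.apply_symm_apply, swL_ten] at h1
    exact h1.symm
  · rintro ⟨S, T, hST⟩
    refine (swQ_tset h).mem_Kr_of_ten hb ha (Matrix.mulVecLin (T : Matrix (Fin b) (Fin b) F))
      (Matrix.mulVecLin (S : Matrix (Fin a) (Fin a) F)) fun y x => swIso_ten g ?_
    rw [show mat Q g = (S : Matrix (Fin a) (Fin a) F) ⊗ₖ (T : Matrix (Fin b) (Fin b) F) from hST, kron_mulVec_ten]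
    rfl

theorem swIso_omega (Q : QuadraticForm F (Idx a b → F)) :
    (Cfsg.Omega F ⇑Q).map (swIso Q).toMonoidHom = Cfsg.Omega F ⇑(swQ Q) := by
  unfold Cfsg.Omega
  rw [commutator_def, commutator_def, Subgroup.map_commutator,
    Subgroup.map_top_of_surjective _ (swIso Q).surjective]

end CfsgLib.TensorSlice
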