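import Cfsg.Agent.TensorOrthSlice.Membership
import Cfsg.Agent.TensorOrthSlice.Swap
import Cfsg.Agent.TensorSympOrth.URoot
import Cfsg.Agent.Signalizer.Generation

/-!
# A three-dimensional second factor: an element stabilising a singular left slice
-/

set_option autoImplicit false
set_option linter.unusedSectionVars false

namespace CfsgLib.TensorSlice

open Matrix Module CfsgLib.Spinor CfsgLib.OrthMax CfsgLib.TensorOrth
open CfsgLib.TensorMax (Idx ten ten_add_left ten_add_right ten_smul_left ten_smul_right ten_eq_zero ten_inj_left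
  ten_inj_right)
open CfsgLib.TensorUnitary (ten_induction)

variable {F : Type*} [Field F] [Fintype F] {a b : ℕ} {Q : QuadraticForm F (Idx a b → F)}
  {B₁ : LinearMap.BilinForm F (Fin a → F)} {B₂ : LinearMap.BilinForm F (Fin b → F)}

namespace ASet

variable (hs : ASet Q B₁ B₂)
include hs

/-- An element of `p`-power order fixing an anisotropic vector is trivial in dimension three. -/
theorem eq_one_of_fix_three {p : ℕ} [Fact p.Prime] [CharP F p] (hb : b = 3) {T : isoG B₂} {h : Fin b → F}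
    (hh : B₂ h h ≠ 0) (hTh : (T.1 : Matrix (Fin b) (Fin b) F) *ᵥ h = h) {k : ℕ} (hT : T ^ p ^ k = 1) : T = 1 := by
  have : Nonempty (Fin b) := ⟨⟨0, hs.bpos⟩⟩
  set N : Matrix (Fin b) (Fin b) F := (T.1 : Matrix (Fin b) (Fin b) F) - 1 with hN
  have hNk : N ^ (p ^ k) = 0 := by
    rw [hN, sub_pow_char_pow_of_commute (p := p) k (Commute.one_right (T.1 : Matrix (Fin b) (Fin b) F)),
      ← Units.val_pow_eq_pow_val, ← SubmonoidClass.coe_pow, hT, OneMemClass.coe_one, Units.val_one, one_pow,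
      sub_self]
  have hNv : ∀ z, (T.1 : Matrix (Fin b) (Fin b) F) *ᵥ z = z + N *ᵥ z := fun z => by
    rw [hN, sub_mulVec, one_mulVec]; abel
  by_contra hne
  obtain ⟨x, hx⟩ : ∃ x, N *ᵥ x ≠ 0 := by
    by_contra! hcon
    exact hne (hs.isoG_ext fun y => by rw [hNv, hcon, add_zero, OneMemClass.coe_one, Units.val_one, one_mulVec])
  obtain ⟨y, hy, hy'⟩ : ∃ y, N *ᵥ y ≠ 0 ∧ N *ᵥ (N *ᵥ y) = 0 := by
    by_contra hcon
    push Not at hcon
    have : ∀ j, N *ᵥ ((N ^ j) *ᵥ x) ≠ 0 := by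
      intro j
      induction j with
      | zero => rwa [pow_zero, one_mulVec]
      | succ j ih => rw [pow_succ', ← mulVec_mulVec]; exact hcon _ ih
    exact this (p ^ k) (by rw [hNk, zero_mulVec, mulVec_zero])
  set c := N *ᵥ y with hc
  have hTc : (T.1 : Matrix (Fin b) (Fin b) F) *ᵥ c = c := by rw [hNv, hy', add_zero]
  have hperp : ∀ z w, (T.1 : Matrix (Fin b) (Fin b) F) *ᵥ w = w → B₂ (N *ᵥ z) w = 0 := fun z w hw => by
    have h1 := T.2 z w
    rw [hw, hNv, map_add, LinearMap.add_apply] at h1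
    linear_combination h1
  have hcc : B₂ c c = 0 := hperp y c hTc
  have hch : B₂ c h = 0 := hperp y h hTh
  obtain ⟨w, hw⟩ := hs.tset.f₂.exists_one hy
  obtain ⟨d, hdh, hdc⟩ := hs.exists_proj (p := ![h]) ⟨fun i => by fin_cases i; exact hh,
    fun i j hij => absurd (Subsingleton.elim i j) hij⟩ w
  have hdh' : B₂ d h = 0 := hdh 0
  have hcd : B₂ c d = 1 := by
    rw [hdc c (fun i => by fin_cases i; exact hch), hs.symm₂, hw]
  -- the common orthogonal of `h` and `c`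
  set K := perp B₂ ![h, c] with hK
  have hspan : Submodule.span F {c} = K := by
    refine Submodule.eq_of_le_of_finrank_le ?_ ?_
    · rw [Submodule.span_singleton_le_iff_mem, hK, mem_perp]
      intro i; fin_cases i
      · exact hch
      · exact hcc
    · have h1 := LinearMap.finrank_range_add_finrank_ker (LinearMap.pi fun i => B₂.flip (![h, c] i))
      have h2 : LinearMap.range (LinearMap.pi fun i => B₂.flip (![h, c] i)) = ⊤ := by
        refine LinearMap.range_eq_top.2 fun v => ⟨(v 0 / B₂ h h) • h + v 1 • d, funext fun i => ?_⟩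
        fin_cases i
        · simp [hdh', hh]
        · simp [hs.symm₂ h c, hch, hs.symm₂ d c, hcd]
      rw [h2, finrank_top, Module.finrank_fin_fun, Module.finrank_fin_fun] at h1
      rw [finrank_span_singleton hy, hK, perp]
      omega
  have hr : ∀ z, ∃ r : F, N *ᵥ z = r • c := fun z => by
    have : N *ᵥ z ∈ K := mem_perp.2 fun i => by
      fin_cases i
      · exact hperp z h hTh
      · exact hperp z c hTc
    rw [← hspan, Submodule.mem_span_singleton] at this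
    obtain ⟨r, hr⟩ := this
    exact ⟨r, hr.symm⟩
  have hzero : ∀ z, B₂ z c ≠ 0 → N *ᵥ z = 0 := fun z hz => by
    obtain ⟨r, hr⟩ := hr z
    have h1 := T.2 z z
    rw [hNv, hr] at h1
    simp only [map_add, map_smul, LinearMap.add_apply, LinearMap.smul_apply, smul_eq_mul, hcc, hs.symm₂ c z] at h1
    have h2 : (2 * r) * B₂ z c = 0 := by linear_combination h1
    rw [hr, (mul_eq_zero.1 ((mul_eq_zero.1 h2).resolve_right hz)).resolve_left hs.two, zero_smul]
  have hd0 : B₂ d c ≠ 0 := by rw [hs.symm₂, hcd]; exact one_ne_zero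
  by_cases h0 : B₂ x c = 0
  · refine hx ?_
    have := hzero (x + d) (by rw [map_add, LinearMap.add_apply, h0, zero_add]; exact hd0)
    rwa [mulVec_add, hzero d hd0, add_zero] at this
  · exact hx (hzero x h0)

/-- A singular vector of the first factor and an anisotropic plane orthogonal to it. -/
theorem exists_gamma_plane (ha : 5 ≤ a) : ∃ γ z₁ z₂ : Fin a → F, γ ≠ 0 ∧ B₁ γ γ = 0 ∧ B₁ z₁ γ = 0 ∧ B₁ z₂ γ = 0 ∧
    ∀ s t : F, B₁ (s • z₁ + t • z₂) (s • z₁ + t • z₂) = 0 → s = 0 ∧ t = 0 := by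
  obtain ⟨γ, -, hγ0, hγ⟩ := hs.tset.f₁.exists_iso ⊤ (by rw [finrank_top, Module.finrank_fin_fun]; omega)
  obtain ⟨d, hd, hdγ⟩ := hs.tset.f₁.exists_partner hγ0 hγ
  have hγd : B₁ γ d = 1 := by rw [hs.symm₁, hdγ]
  obtain ⟨ν, hν⟩ := FiniteField.exists_nonsquare (F := F) fun h => hs.two (by
    have : CharP F 2 := ringChar.of_eq h
    exact CharTwo.two_eq_zero)
  have hν0 : ν ≠ 0 := fun h => hν (h ▸ IsSquare.zero)
  have h' := hs.swap
  have o : IsOrth B₁ ![γ + d, γ - d] := by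
    refine ⟨fun i => ?_, fun i j hij => ?_⟩
    · fin_cases i
      · simpa [hγ, hd, hdγ, hγd, one_add_one_eq_two] using hs.two
      · simpa [hγ, hd, hdγ, hγd, neg_sub_left, one_add_one_eq_two] using hs.two
    · fin_cases i <;> fin_cases j <;> first | exact absurd rfl hij | simp [hγ, hd, hdγ, hγd]
  obtain ⟨z₁, hz₁, e₁⟩ := h'.exists_value o (by omega) 1
  have o₁ := h'.orth_snoc o (h := z₁) (by rw [e₁]; exact one_ne_zero) hz₁
  obtain ⟨z₂, hz₂', e₂⟩ := h'.exists_value o₁ (by omega) (-ν)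
  obtain ⟨hz₂, h21⟩ := h'.perp_snoc hz₂'
  have hg : ∀ z, (∀ i, B₁ z (![γ + d, γ - d] i) = 0) → B₁ z γ = 0 := fun z hz => by
    have u := hz 0
    have v := hz 1
    simp only [Matrix.cons_val_zero, Matrix.cons_val_one, map_add, map_sub] at u v
    exact (mul_eq_zero.1 (show (2 : F) * B₁ z γ = 0 by linear_combination u + v)).resolve_left hs.two
  refine ⟨γ, z₁, z₂, hγ0, hγ, hg _ hz₁, hg _ hz₂, fun s t h => ?_⟩
  simp only [map_add, map_smul, LinearMap.add_apply, LinearMap.smul_apply, smul_eq_mul, e₁, e₂, h21,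
    hs.symm₁ z₁ z₂] at h
  have ht : t = 0 := by
    by_contra ht
    exact hν ⟨s / t, by field_simp; linear_combination -h⟩
  subst ht
  exact ⟨mul_self_eq_zero.1 (by linear_combination h), rfl⟩

/-- For a three-dimensional second factor an element outside `Kr` stabilises a singular left slice, given a
singular vector of the first factor with an anisotropic plane orthogonal to it. -/
theorem exists_left_slice_of_plane (hb : b = 3) (hae : Even a) (ha : 4 ≤ a) {γ z₁ z₂ : Fin a → F} (hγ0 : γ ≠ 0)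
    (hγ : B₁ γ γ = 0) (hz₁ : B₁ z₁ γ = 0) (hz₂ : B₁ z₂ γ = 0)
    (haniso : ∀ s t : F, B₁ (s • z₁ + t • z₂) (s • z₁ + t • z₂) = 0 → s = 0 ∧ t = 0) {M : Subgroup (Isom Q)}
    (hΩ : ∀ g ∈ Cfsg.Omega F ⇑Q, g ∈ Kr Q → g ∈ M) {g : Isom Q} (hg : g ∈ M) (hgK : g ∉ Kr Q) :
    ∃ m ∈ M, m ∉ Kr Q ∧ ∃ γ, γ ≠ 0 ∧ B₁ γ γ = 0 ∧ ∀ w, ∃ w', mat Q m *ᵥ ten γ w = ten γ w' := by
  classical
  have hbo : Odd b := hb ▸ ⟨1, rfl⟩
  obtain ⟨M', hMM', hback, hall⟩ := hs.exists_extend_even hΩ hbo hae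
  suffices key : ∃ m ∈ M', m ∉ Kr Q ∧ ∃ γ, γ ≠ 0 ∧ B₁ γ γ = 0 ∧ ∀ w, ∃ w', mat Q m *ᵥ ten γ w = ten γ w' by
    obtain ⟨m, hm, hmK, γ, hγ0, hγ, hmap⟩ := key
    obtain ⟨n, hn, hnK, s, -, hns⟩ := hback m hm
    refine ⟨n, hn, fun h => hmK (hnK.2 h), γ, hγ0, hγ, fun w => ?_⟩
    obtain ⟨w', hw'⟩ := hmap w
    exact ⟨s • w', by rw [hns, hw', ten_smul_right]⟩
  have hΩ' : ∀ g ∈ Cfsg.Omega F ⇑Q, g ∈ Kr Q → g ∈ M' := fun g h h' => hMM' (hΩ g h h')
  obtain ⟨h, hh, y, hyM, hyK, hyfix⟩ :=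
    hs.exists_fixed_three hbo (by omega) (by omega) hΩ' hb hall (hMM' hg) hgK
  have h₁ := hs.tset.f₁
  let zz : F × F → (Fin a → F) := fun u => u.1 • z₁ + u.2 • z₂
  have hzz : ∀ u, B₁ (zz u) γ = 0 := fun u => by simp [zz, hz₁, hz₂]
  let kk : F × F → F := fun u => -B₁ (zz u) (zz u) / 2
  have hkk : ∀ u, kk u * (1 + 1) + B₁ (zz u) (zz u) = 0 := fun u => by
    have := hs.two
    simp only [kk]; field_simp; ring
  let E : F × F → Isom Q := fun u => hs.tset.krIso (h₁.eGL hγ (hzz u) (kk u)) 1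
    (hs.tset.left_ok (h₁.fgrp_le (h₁.eGL_mem hγ (hzz u) (hkk u))))
  have hE : ∀ u x w, mat Q (E u) *ᵥ ten x w = ten (esie B₁ 1 γ (zz u) (kk u) x) w := fun u x w => by
    show ((CfsgLib.TensorMax.krG (h₁.eGL hγ (hzz u) (kk u), (1 : GL (Fin b) F)) : GL (Idx a b) F) :
      Matrix (Idx a b) (Idx a b) F) *ᵥ ten x w = _
    rw [CfsgLib.TensorMax.krG_val, CfsgLib.TensorMax.kron_mulVec_ten, h₁.eGL_mulVec, Units.val_one, one_mulVec]
  let ψ : Multiplicative (F × F) →* Isom Q := MonoidHom.mk' (fun u => E u.toAdd) fun u v => hs.ext_ten fun x w => by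
    rw [mat_mul, ← mulVec_mulVec, hE, hE, hE, h₁.esie_comp hγ (hzz _) (hzz _)]
    have hz : zz (u * v).toAdd = zz v.toAdd + zz u.toAdd := by
      simp only [zz, toAdd_mul, Prod.fst_add, Prod.snd_add, add_smul]; abel
    have hk : kk (u * v).toAdd = kk v.toAdd + kk u.toAdd - 1 * B₁ (zz v.toAdd) (zz u.toAdd) := by
      simp only [kk, hz, map_add, LinearMap.add_apply, hs.symm₁ (zz u.toAdd) (zz v.toAdd)]
      have := hs.two
      field_simp
      ring
    rw [hz, hk]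
  set U := ψ.range with hU
  have hn5 : 5 ≤ a * b := le_trans (by omega : 5 ≤ 4 * 3) (Nat.mul_le_mul ha hb.ge)
  have hUM : ∀ u, E u ∈ M' := fun u => by
    obtain ⟨e, he, hev⟩ := hs.tset.exists_left hn5 hΩ' (h₁.eGL_mem hγ (hzz u) (hkk u))
    rwa [show E u = e from hs.ext_ten fun x w => by rw [hE, hev, h₁.eGL_mulVec]]
  -- the group fixing the slice
  set Y := M' ⊓ fixP Q ![h] with hY
  have hconj : ∀ r ∈ U, ∀ x ∈ Y, r * x * r⁻¹ ∈ Y := by
    rintro _ ⟨u, rfl⟩ x hx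
    refine ⟨M'.mul_mem (M'.mul_mem (hUM _) hx.1) (M'.inv_mem (hUM _)), fun i z => ?_⟩
    fin_cases i
    show mat Q (ψ u * x * (ψ u)⁻¹) *ᵥ ten z h = ten z h
    rw [← map_inv, mat_mul, mat_mul, ← mulVec_mulVec, ← mulVec_mulVec,
      show mat Q (ψ u⁻¹) *ᵥ ten z h = ten (esie B₁ 1 γ (zz u⁻¹.toAdd) (kk u⁻¹.toAdd) z) h from hE _ _ _,
      show ∀ z, mat Q x *ᵥ ten z h = ten z h from fun z => hx.2 0 z, ← show mat Q (ψ u⁻¹) *ᵥ ten z h = _ from
        hE _ _ _, mulVec_mulVec, ← mat_mul, ← map_mul, mul_inv_cancel, map_one, mat_one, one_mulVec]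
  have hUY : U ≤ Subgroup.normalizer (Y : Set (Isom Q)) := fun r hr => by
    rw [Subgroup.mem_normalizer_iff]
    refine fun x => ⟨hconj r hr x, fun h' => ?_⟩
    have := hconj r⁻¹ (U.inv_mem hr) _ h'
    rwa [inv_inv, show r⁻¹ * (r * x * r⁻¹) * r = x by group] at this
  obtain ⟨p, hpc⟩ := CharP.exists F
  obtain ⟨f, hp, hq⟩ := FiniteField.card F p
  have : Fact p.Prime := ⟨hp⟩
  have hψinj : Function.Injective ψ := by
    refine (injective_iff_map_eq_one ψ).2 fun u hu => ?_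
    obtain ⟨x₀, hx₀⟩ := h₁.exists_one hγ0
    obtain ⟨w, hw⟩ : ∃ w : Fin b → F, w ≠ 0 := ⟨h, fun h0 => hh (by simp [h0])⟩
    have h3 : esie B₁ 1 γ (zz u.toAdd) (kk u.toAdd) x₀ = x₀ := ten_inj_left hw (by
      rw [← hE, show E u.toAdd = 1 from hu, mat_one, one_mulVec])
    have h4 := congrArg (fun v => B₁ v (zz u.toAdd)) h3
    simp only [esie_apply, hx₀, map_add, map_sub, map_smul, LinearMap.add_apply, LinearMap.sub_apply,
      LinearMap.smul_apply, smul_eq_mul, hs.symm₁ γ (zz u.toAdd), hzz] at h4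
    obtain ⟨hs0, ht0⟩ := haniso u.toAdd.1 u.toAdd.2 (show B₁ (zz u.toAdd) (zz u.toAdd) = 0 by
      linear_combination h4)
    exact Multiplicative.toAdd.injective (Prod.ext hs0 ht0)
  have hUel : Cfsg.IsElementaryAbelian p U := by
    refine ⟨⟨⟨?_⟩⟩, ?_⟩
    · rintro ⟨_, u, rfl⟩ ⟨_, v, rfl⟩
      exact Subtype.ext (show ψ u * ψ v = ψ v * ψ u by rw [← map_mul, ← map_mul, mul_comm])
    · rintro _ ⟨u, rfl⟩
      rw [← map_pow, show u ^ p = 1 from Multiplicative.toAdd.injective (by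
        rw [toAdd_pow, toAdd_one]; ext <;> simp), map_one]
  -- a centralised element outside `Kr`
  obtain ⟨m, hmY, hmK, u, hu1, hcomm⟩ : ∃ m ∈ Y, m ∉ Kr Q ∧ ∃ u, u ≠ 1 ∧ ψ u * m = m * ψ u := by
    have hu₀ : (Multiplicative.ofAdd ((1 : F), (0 : F))) ≠ 1 := fun h => one_ne_zero
      (congrArg (fun v => v.toAdd.1) h)
    by_cases hdiv : p ∣ Nat.card Y
    · obtain ⟨m, hm, hm1, ⟨k, hk⟩, hc⟩ := CfsgLib.TensorSympOrth.exists_fixed_pelement
        (CfsgLib.Signalizer.isPGroup_of_elab hUel) hUY hdiv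
      refine ⟨m, hm, fun hmK => hm1 ?_, _, hu₀, hc _ ⟨_, rfl⟩⟩
      obtain ⟨T, hT, hTh⟩ := hs.kr_fix hmK (h := h) (fun h0 => hh (by simp [h0])) (hm.2 0)
      rw [hT, hs.eq_one_of_fix_three hb hh hTh (hs.kR_inj (by rw [map_pow, ← hT, hk, map_one])), map_one]
    · obtain ⟨B, hB, hrel, hnot⟩ : ∃ B : Subgroup (Isom Q), B ≤ U ∧ B.relIndex U ≤ p ∧
          ¬ Y ⊓ Subgroup.centralizer (B : Set (Isom Q)) ≤ Kr Q := by
        by_contra hcon
        push Not at hcon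
        exact hyK (CfsgLib.Signalizer.le_of_forall_hyperplane hUel hdiv hUY (D := Kr Q) hcon
          ⟨hyM, fun i z => by fin_cases i; exact hyfix z⟩)
      have hBne : B ≠ ⊥ := by
        intro h0
        rw [h0, Subgroup.relIndex_bot_left, hU, ← Nat.card_congr (MonoidHom.ofInjective hψinj).toEquiv,
          Nat.card_congr Multiplicative.toAdd, Nat.card_prod, Nat.card_eq_fintype_card, hq] at hrel
        have h1 : p ≤ p ^ (f : ℕ) := Nat.le_self_pow f.pos.ne' p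
        have h2 := Nat.mul_le_mul h1 h1
        have h3 : p < p * p := lt_mul_of_one_lt_left hp.pos hp.one_lt
        omega
      obtain ⟨r, hr, hr1⟩ := (Subgroup.ne_bot_iff_exists_ne_one.1 hBne)
        |> fun ⟨⟨r, hr⟩, h⟩ => (⟨r, hr, fun h' => h (Subtype.ext h')⟩ : ∃ r ∈ B, r ≠ 1)
      obtain ⟨u, rfl⟩ := hB hr
      obtain ⟨m, hm, hmK⟩ := SetLike.not_le_iff_exists.1 hnot
      exact ⟨m, hm.1, hmK, u, fun h => hr1 (by rw [h, map_one]), Subgroup.mem_centralizer_iff.1 hm.2 _ hr⟩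
  -- the square of `u - 1`
  set z := zz u.toAdd with hzdef
  have hz0 : B₁ z z ≠ 0 := fun h0 => hu1 (by
    obtain ⟨e₁, e₂⟩ := haniso _ _ h0
    exact Multiplicative.toAdd.injective (Prod.ext e₁ e₂))
  let N : (Idx a b → F) → (Idx a b → F) := fun v => mat Q (ψ u) *ᵥ v - v
  have hNm : ∀ v, N (mat Q m *ᵥ v) = mat Q m *ᵥ N v := fun v => by
    simp only [N, mulVec_sub]
    rw [mulVec_mulVec, mulVec_mulVec, ← mat_mul, ← mat_mul, hcomm]
  have hNadd : ∀ v w, N (v + w) = N v + N w := fun v w => by simp only [N, mulVec_add]; abel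
  have hN2 : ∀ x w, N (N (ten x w)) = ten γ ((-(B₁ x γ * B₁ z z)) • w) := fun x w => by
    have hN1 : ∀ x w, N (ten x w) = ten (esie B₁ 1 γ z (kk u.toAdd) x - x) w := fun x w => by
      show mat Q (E u.toAdd) *ᵥ ten x w - ten x w = _
      rw [hE, ten_sub_left]
    rw [hN1, hN1, ten_smul_right, ← ten_smul_left]
    congr 1
    simp only [esie_apply, map_add, map_sub, map_smul, LinearMap.add_apply, LinearMap.sub_apply,
      LinearMap.smul_apply, smul_eq_mul, hγ, hs.symm₁ γ z, show B₁ z γ = 0 from hzz _]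
    match_scalars <;> ring
  have himg : ∀ v, ∃ w', N (N v) = ten γ w' := fun v => by
    induction v using ten_induction with
    | hadd v w hv hw =>
      obtain ⟨v', hv'⟩ := hv
      obtain ⟨w', hw'⟩ := hw
      exact ⟨v' + w', by rw [hNadd, hNadd, hv', hw', ten_add_right]⟩
    | h0 => exact ⟨0, by simp [N, ten_zero_right]⟩
    | h x w => exact ⟨_, hN2 x w⟩
  obtain ⟨x₀, hx₀⟩ := h₁.exists_one hγ0
  refine ⟨m, hmY.1, hmK, γ, hγ0, hγ, fun w => ?_⟩
  obtain ⟨w', hw'⟩ := himg (mat Q m *ᵥ ten x₀ ((-(B₁ z z))⁻¹ • w))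
  refine ⟨w', ?_⟩
  rw [← hw', hNm, hNm, hN2, hx₀, one_mul, smul_smul, mul_inv_cancel₀ (neg_ne_zero.2 hz0), one_smul]

/-- For a three-dimensional second factor an element outside `Kr` stabilises a singular left slice. -/
theorem exists_left_slice (hb : b = 3) (hae : Even a) (ha : 5 ≤ a) {M : Subgroup (Isom Q)}
    (hΩ : ∀ g ∈ Cfsg.Omega F ⇑Q, g ∈ Kr Q → g ∈ M) {g : Isom Q} (hg : g ∈ M) (hgK : g ∉ Kr Q) :
    ∃ m ∈ M, m ∉ Kr Q ∧ ∃ γ, γ ≠ 0 ∧ B₁ γ γ = 0 ∧ ∀ w, ∃ w', mat Q m *ᵥ ten γ w = ten γ w' := by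
  obtain ⟨γ, z₁, z₂, hγ0, hγ, hz₁, hz₂, haniso⟩ := hs.exists_gamma_plane ha
  exact hs.exists_left_slice_of_plane hb hae (by omega) hγ0 hγ hz₁ hz₂ haniso hΩ hg hgK

end ASet

end CfsgLib.TensorSlice
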